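import Cfsg.Agent.Lib.Spor.Cos.He.ActAInv0

/-! Data and checks for a presented sporadic group. -/

set_option autoImplicit false
set_option maxRecDepth 100000
set_option maxHeartbeats 4000000

namespace Cfsg.Agent.Spor.Cos.He

theorem actA_inv : ∀ i < 2058, (actA.chkInv) i = true :=
  of_blocks (size := 1024) (b := 3) (by decide) (by decide) fun j hj => by
    interval_cases j
    · exact actA_inv0
    · exact actA_inv1
    · exact actA_inv2

end Cfsg.Agent.Spor.Cos.He
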