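import Cfsg.Agent.Lib.Spor.Cos.He.ActAData
import Cfsg.Agent.Lib.Spor.Cos.He.Words

/-! Data and checks for a presented sporadic group. -/

set_option autoImplicit false
set_option maxRecDepth 100000
set_option maxHeartbeats 4000000

namespace Cfsg.Agent.Spor.Cos.He

theorem actA_rels0 : allBlock (actA.chkFix words) 2058 256 0 = true := by decide +kernel

theorem actA_rels1 : allBlock (actA.chkFix words) 2058 256 1 = true := by decide +kernel

theorem actA_rels2 : allBlock (actA.chkFix words) 2058 256 2 = true := by decide +kernel

theorem actA_rels3 : allBlock (actA.chkFix words) 2058 256 3 = true := by decide +kernel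

theorem actA_rels4 : allBlock (actA.chkFix words) 2058 256 4 = true := by decide +kernel

theorem actA_rels5 : allBlock (actA.chkFix words) 2058 256 5 = true := by decide +kernel

theorem actA_rels6 : allBlock (actA.chkFix words) 2058 256 6 = true := by decide +kernel

theorem actA_rels7 : allBlock (actA.chkFix words) 2058 256 7 = true := by decide +kernel

theorem actA_rels8 : allBlock (actA.chkFix words) 2058 256 8 = true := by decide +kernel


end Cfsg.Agent.Spor.Cos.He
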