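import Cfsg.Agent.Lib.Spor.Cos.He.Symp
import Cfsg.Agent.Lib.Spor.Cos.He.IsSimple
import Cfsg.Prelude.Def_Sporadic

/-!
The Held group as a permutation group of degree 2058.
-/

set_option autoImplicit false

open Cfsg.Spor

namespace Cfsg.Agent.Spor.Cos.He

theorem piA_injective : Function.Injective piA :=
  (injective_iff_map_eq_one piA).2 fun y hy => det y fun q _ => by rw [hy]; rfl

theorem exists_perm : ∃ H : Subgroup (Equiv.Perm (Fin 2058)), Cfsg.IsHe H ∧ MulAction.IsPretransitive H (Fin 2058) ∧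
    ∃ (F : Type) (_ : Field F) (_ : Fintype F), Fintype.card F = 4 ∧
      ∃ N : Subgroup (MulAction.stabilizer H (0 : Fin 2058)), N.index = 2 ∧
        Nonempty (N ≃* Matrix.symplecticGroup (Fin 2) F) := by
  let R : Subgroup (Equiv.Perm (Fin 2058)) := piA.range
  let e : Spor.He ≃* R := MonoidHom.ofInjective piA_injective
  have := isSimple
  refine ⟨R, ⟨e.symm.isSimpleGroup, (Nat.card_congr e.toEquiv).symm.trans card_eq⟩, ⟨fun p q => ?_⟩,
    F4, inferInstance, inferInstance, rfl, ?_⟩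
  · obtain ⟨y, hy⟩ := trA p
    obtain ⟨z, hz⟩ := trA q
    refine ⟨⟨piA (z * y⁻¹), _, rfl⟩, ?_⟩
    show piA (z * y⁻¹) p = q
    rw [← hy, ← Equiv.Perm.mul_apply, ← map_mul, inv_mul_cancel_right, hz]
  · obtain ⟨N, -, hN, ⟨eN⟩⟩ := exists_symplectic
    have hS : (stab piA baseA).map (e : Spor.He →* R) = MulAction.stabilizer R (0 : Fin 2058) := by
      ext ⟨σ, y, rfl⟩
      rw [Subgroup.mem_map, MulAction.mem_stabilizer_iff]
      constructor
      · rintro ⟨z, hz, h⟩
        rw [← h]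
        exact hz
      · intro h
        exact ⟨y, h, rfl⟩
    let T : val g lv1W ≃* MulAction.stabilizer R (0 : Fin 2058) :=
      ((MulEquiv.subgroupCongr stabA).trans (e.subgroupMap _)).trans (MulEquiv.subgroupCongr hS)
    refine ⟨N.map (T : val g lv1W →* _), ?_, ⟨(T.subgroupMap N).symm.trans eN⟩⟩
    rw [← hN]
    exact Subgroup.index_map_equiv N T

end Cfsg.Agent.Spor.Cos.He
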