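import Cfsg.Agent.Lib.Spor.Cos.Orb

/-! Data and checks for a presented sporadic group. -/

set_option autoImplicit false
set_option maxRecDepth 100000
set_option maxHeartbeats 4000000

namespace Cfsg.Agent.Spor.Cos.He

def hh0EB0 : Bst := .node 3 (.node 1 (.leaf 0x40005000f00020005000e00060004001a00020004000c00040003000b00020003000a000400020009000200020008000400010007000300010006000100010005000400000004000300000003000100000002000000000001000000000000) (.node 2 (.leaf 0x2000f001f0004000e001e0004000d00130003000d00210002000d00230000000d000d0006000c00240001000c00180006000b002500060009002b00020009001500040008001400060007001d000200070012000400060011000200060010) (.leaf 0x60018003a00020018002f00040016002000030016003400000016001600060015003600030015002900010015002800060014003700020014002600030013001700020013001900060012001b00010012002200060011001c0006000f002e))) (.node 4 (.leaf 0x20027004100060026004a00030026003d00010026003c00040024003100010024003000040023003200030020002700020020002a0003001f00350001001f002c0006001e002d0002001e00330004001b00390001001b003800040019003b) (.node 5 (.leaf 0x4003e004e0006003c004f0004003a004700060039004800030035004200020034003e00060033003f00030033004900010033004500040031004b00060030004d0004002f004c0004002e00460004002a00430003002a0044000300280040)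 (.leaf 0x2005200540002004d0051000600440053000200440052000600430050)))

/-- The table hh0E. -/
def hh0E : Tab := ⟨hh0EB0, 48, 4⟩

def hh0PB0 : Bst := .node 3 (.node 1 (.leaf 0xf000e001a000c000b000a0009000800070006000500040003000200010000) (.node 2 (.leaf 0x1f001e001300210023000d002400180025002b00150014001d001200110010) (.leaf 0x2e00200034003500160037002900280038002600170019001b0022001c002d))) (.node 4 (.leaf 0x49004a003d003c0030002f003200310027002a0036002c00330039003b003a) (.node 5 (.leaf 0x4e004f004500440046003e0048004c004d0043004700410042004b003f0040) (.leaf 0x540052005100530050)))

/-- The table hh0P. -/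
def hh0P : Tab := ⟨hh0PB0, 16, 4⟩

/-- The words of `hh0`. -/
def hh0W : List (List ℕ) := [[0], [1], [2], [3], [4], [5], [6]]

/-- An orbit of 85 points. -/
def hh0 : Orb := ⟨85, hh0E, hh0P⟩

end Cfsg.Agent.Spor.Cos.He
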