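import Cfsg.Agent.Lib.Spor.Cos.Orb

/-! Data and checks for a presented sporadic group. -/

set_option autoImplicit false
set_option maxRecDepth 100000
set_option maxHeartbeats 4000000

namespace Cfsg.Agent.Spor.Cos.He

def hh1EB0 : Bst := .node 1 (.leaf 0x40007000e00030005002900010005004300000005004200040004000a00080002004500050002005000020002000c00090001004900060001001900030001004f00020001000700010001001300000001001b00050000001a000000000001) (.leaf 0x5000a004600020009004b000500080002000500070006)

/-- The table hh1E. -/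
def hh1E : Tab := ⟨hh1EB0, 48, 4⟩

def hh1PB0 : Bst := .node 3 (.node 1 (.leaf 0xf000000080000000b0000000000040010000000000000001100000000) (.node 2 (.leaf 0x200010006000000000000000000000003000000000000) (.leaf 0xe000000000000000000000000000000000000))) (.node 4 (.leaf 0) (.node 5 (.leaf 0x5000000000000001200000007000000000013000a0000000d000c00000000) (.leaf 0x9)))

/-- The table hh1P. -/
def hh1P : Tab := ⟨hh1PB0, 16, 4⟩

/-- The words of `hh1`. -/
def hh1W : List (List ℕ) := [[0, 2], [0, 5], [0, 6], [1, 2, 3, 1], [3, 2, 4, 2, 3], [1, 4, 2, 1, 2, 6, 4, 1], [2, 5], [1, 2, 3, 1, 0, 2], [3, 2, 4, 2, 3, 1, 2, 3, 1, 0, 6, 3, 2, 4, 2, 3, 0, 2], [1, 2, 3, 1, 0, 5]]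

/-- An orbit of 20 points. -/
def hh1 : Orb := ⟨20, hh1E, hh1P⟩

end Cfsg.Agent.Spor.Cos.He
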