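import Cfsg.Agent.Lib.Spor.Cos.Orb

/-! Data and checks for a presented sporadic group. -/

set_option autoImplicit false
set_option maxRecDepth 100000
set_option maxHeartbeats 4000000

namespace Cfsg.Agent.Spor.Cos.He

def hh2EB0 : Bst := .leaf 0x50008001900060006001b00030006004500020006001300040005000c00020004004f00060003004300030003001a00020003004200040002000700000002000600040001004900040000002900030000000a00000000000e000000000002

/-- The table hh2E. -/
def hh2E : Tab := ⟨hh2EB0, 48, 4⟩

def hh2PB0 : Bst := .node 3 (.node 1 (.leaf 0x10000000b000000020000000000060005000000000000000000000000) (.node 2 (.leaf 0xe0008000f00000000000000000000000c000000000000) (.leaf 0x3000000000000000000000000000000000000))) (.node 4 (.leaf 0) (.node 5 (.leaf 0xa000000000000000000000004000000000000000d00000009000700000000) (.leaf 0)))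

/-- The table hh2P. -/
def hh2P : Tab := ⟨hh2PB0, 16, 4⟩

/-- The words of `hh2`. -/
def hh2W : List (List ℕ) := [[0, 2], [0, 5], [0, 6], [1, 2, 3, 1], [3, 2, 4, 2, 3], [2, 5], [1, 2, 3, 1, 0, 2], [3, 2, 4, 2, 3, 1, 2, 3, 1, 0, 6, 3, 2, 4, 2, 3, 0, 2], [1, 2, 3, 1, 0, 5]]

/-- An orbit of 16 points. -/
def hh2 : Orb := ⟨16, hh2E, hh2P⟩

end Cfsg.Agent.Spor.Cos.He
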