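import Cfsg.Agent.Lib.Spor.Cos.Orb

/-! Data and checks for a presented sporadic group. -/

set_option autoImplicit false
set_option maxRecDepth 100000
set_option maxHeartbeats 4000000

namespace Cfsg.Agent.Spor.Cos.He

def hh3EB0 : Bst := .leaf 0x40005003d00040004001200010004002400040003000400020003001d00000003004e00030002000d00030001002300030000003c000200000008000000000010000000000003

/-- The table hh3E. -/
def hh3E : Tab := ⟨hh3EB0, 48, 4⟩

def hh3PB0 : Bst := .node 3 (.node 1 (.leaf 0x50000000000000000000200000000000000080000000000000000) (.node 2 (.leaf 0x70000000000000000000000000000000000000000000a00000001) (.leaf 0x90004000000000000))) (.node 4 (.leaf 0xb0003000000000000000000000000000000000000000000000000) (.node 5 (.leaf 0x600000000000000000000000000000000000000000000000000000000) (.leaf 0)))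

/-- The table hh3P. -/
def hh3P : Tab := ⟨hh3PB0, 16, 4⟩

/-- The words of `hh3`. -/
def hh3W : List (List ℕ) := [[2, 5], [0, 6], [1, 2, 3, 1, 0, 2], [3, 2, 4, 2, 3, 1, 2, 3, 1, 0, 6, 3, 2, 4, 2, 3, 0, 2], [1, 2, 3, 1, 0, 5]]

/-- An orbit of 12 points. -/
def hh3 : Orb := ⟨12, hh3E, hh3P⟩

end Cfsg.Agent.Spor.Cos.He
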