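import Cfsg.Agent.Lib.Spor.Cos.Orb

/-! Data and checks for a presented sporadic group. -/

set_option autoImplicit false
set_option maxRecDepth 100000
set_option maxHeartbeats 4000000

namespace Cfsg.Agent.Spor.Cos.He

def hh4EB0 : Bst := .leaf 0x2004e00010001003d00000001001d00010000003c00000000000d000000000004

/-- The table hh4E. -/
def hh4E : Tab := ⟨hh4EB0, 48, 4⟩

def hh4PB0 : Bst := .node 3 (.node 1 (.leaf 0x10000000000000000000000000000000000000000000000000000) (.node 2 (.leaf 0x30000000000000000000000000000000000000000000000000000) (.leaf 0))) (.node 4 (.leaf 0x40002000000000000000000000000000000000000000000000000) (.node 5 (.leaf 0x500000000000000000000000000000000000000000000000000000000) (.leaf 0)))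

/-- The table hh4P. -/
def hh4P : Tab := ⟨hh4PB0, 16, 4⟩

/-- The words of `hh4`. -/
def hh4W : List (List ℕ) := [[0, 6], [1, 2, 3, 1, 0, 5]]

/-- An orbit of 6 points. -/
def hh4 : Orb := ⟨6, hh4E, hh4P⟩

end Cfsg.Agent.Spor.Cos.He
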