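import Cfsg.Agent.Lib.Spor.Cos.He.LowPart0

/-! A checked coset enumeration. -/

set_option autoImplicit false
set_option maxRecDepth 100000
set_option maxHeartbeats 4000000

namespace Cfsg.Agent.Spor.Cos.He

theorem low_def0 : allBlock low.chkDef 335 512 0 = true := by decide +kernel

theorem low_defs : ∀ i, i + 1 < low.M → low.chkDef i = true := by
  intro i hi
  change i + 1 < 336 at hi
  refine of_allBlock (n := 335) (size := 512) (by decide) (fun j hj => ?_) (by omega)
  have hj' : j < 1 := by omega
  interval_cases j
  · exact low_def0

theorem low_facts : ∀ i, low.M ≤ i + 1 → i < low.nF → ∃ J, low.chkFact i J = true := by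
  exact low.facts_of_covers (low.covers_of_part _ _ _ low_part0) rfl rfl

theorem low_final0 : allBlock low.chkFinal 1680 512 0 = true := by decide +kernel

theorem low_final1 : allBlock low.chkFinal 1680 512 1 = true := by decide +kernel

theorem low_final2 : allBlock low.chkFinal 1680 512 2 = true := by decide +kernel

theorem low_final3 : allBlock low.chkFinal 1680 512 3 = true := by decide +kernel

theorem low_checks : low.Checks where
  pos := by decide +kernel
  defs := low_defs
  facts := low_facts
  final := by
    intro k hk
    change k < 336 * 5 at hk
    refine of_allBlock (n := 1680) (size := 512) (by decide) (fun j hj => ?_) (by omega)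
    have hj' : j < 4 := by omega
    interval_cases j
    · exact low_final0
    · exact low_final1
    · exact low_final2
    · exact low_final3

theorem low_derived : low.rels.all (derivedOk low.n lowBase) = true := by decide +kernel

end Cfsg.Agent.Spor.Cos.He
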