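import Cfsg.Agent.Lib.Spor.Cos.Orb

/-! Data and checks for a presented sporadic group. -/

set_option autoImplicit false
set_option maxRecDepth 100000
set_option maxHeartbeats 4000000

namespace Cfsg.Agent.Spor.Cos.He

def lv2EB0 : Bst := .leaf 0x5000d00180003000b06a10003000a06a20001000707ca0005000607cc00020005071e00000005071a00050004071700010004002900050003071900030002001b00030001001a000200010004000100000003000000000002

/-- The table lv2E. -/
def lv2E : Tab := ⟨lv2EB0, 48, 4⟩

def lv2PB0 : Bst := .node 16 (.node 8 (.node 4 (.node 2 (.node 1 (.leaf 0x20001000000000000) (.leaf 0x400030000000e00000000000000000000000000000000)) (.node 3 (.leaf 0x6000000000000000000000000000000000000) (.leaf 0))) (.leaf 0)) (.leaf 0)) (.leaf 0)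

def lv2PB1 : Bst := .node 104 (.leaf 0) (.node 108 (.node 106 (.leaf 0) (.node 107 (.leaf 0xc000d0000) (.leaf 0))) (.leaf 0))

def lv2PB2 : Bst := .node 120 (.node 116 (.node 114 (.node 113 (.leaf 0) (.leaf 0x900000000000000080005000000070000000000000000000000000000)) (.leaf 0)) (.leaf 0)) (.node 124 (.leaf 0) (.node 126 (.node 125 (.leaf 0xa0000000b0000000000000000000000000000000000000000) (.leaf 0)) (.leaf 0)))

/-- The table lv2P. -/
def lv2P : Tab := ⟨(.node 64 (.node 32 lv2PB0 (.leaf 0)) (.node 96 (.leaf 0) (.node 112 lv2PB1 lv2PB2))), 16, 4⟩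

/-- The words of `lv2`. -/
def lv2W : List (List ℕ) := [[0], [3], [4], [5], [0, 1, 0, 1], [1, 2, 3, 4, 1, 2, 3, 4, 1, 2, 3, 4, 1, 2, 3, 4, 1, 2, 3, 4, 1, 2, 3, 4, 1, 2, 3, 4]]

/-- An orbit of 15 points. -/
def lv2 : Orb := ⟨15, lv2E, lv2P⟩

end Cfsg.Agent.Spor.Cos.He
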