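import Cfsg.Agent.Lib.Spor.Cos.Orb

/-! Data and checks for a presented sporadic group. -/

set_option autoImplicit false
set_option maxRecDepth 100000
set_option maxHeartbeats 4000000

namespace Cfsg.Agent.Spor.Cos.He

def lv3EB0 : Bst := .leaf 0x10004071e00000004071a00040003071700040002071900020001001b00020000001a000100000004000000000003

/-- The table lv3E. -/
def lv3E : Tab := ⟨lv3EB0, 48, 4⟩

def lv3PB0 : Bst := .node 16 (.node 8 (.node 4 (.node 2 (.node 1 (.leaf 0x10000000000000000) (.leaf 0x300020000000000000000000000000000000000000000)) (.leaf 0)) (.leaf 0)) (.leaf 0)) (.leaf 0)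

def lv3PB1 : Bst := .node 120 (.node 116 (.node 114 (.node 113 (.leaf 0) (.leaf 0x700000000000000060004000000050000000000000000000000000000)) (.leaf 0)) (.leaf 0)) (.leaf 0)

/-- The table lv3P. -/
def lv3P : Tab := ⟨(.node 64 (.node 32 lv3PB0 (.leaf 0)) (.node 96 (.leaf 0) (.node 112 (.leaf 0) lv3PB1))), 16, 4⟩

/-- The words of `lv3`. -/
def lv3W : List (List ℕ) := [[0], [4], [5], [0, 1, 0, 1], [1, 2, 3, 4, 1, 2, 3, 4, 1, 2, 3, 4, 1, 2, 3, 4, 1, 2, 3, 4, 1, 2, 3, 4, 1, 2, 3, 4]]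

/-- An orbit of 8 points. -/
def lv3 : Orb := ⟨8, lv3E, lv3P⟩

end Cfsg.Agent.Spor.Cos.He
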