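import Cfsg.Agent.Lib.Spor.Cos.Orb

/-! Data and checks for a presented sporadic group. -/

set_option autoImplicit false
set_option maxRecDepth 100000
set_option maxHeartbeats 4000000

namespace Cfsg.Agent.Spor.Cos.He

def lv4EB0 : Bst := .leaf 0x10000000e000000000005

/-- The table lv4E. -/
def lv4E : Tab := ⟨lv4EB0, 48, 4⟩

def lv4PB0 : Bst := .node 16 (.node 8 (.node 4 (.node 2 (.node 1 (.leaf 0x100000000000000000000000000000000000000000000000000000000) (.leaf 0)) (.leaf 0)) (.leaf 0)) (.leaf 0)) (.leaf 0)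

/-- The table lv4P. -/
def lv4P : Tab := ⟨(.node 64 (.node 32 lv4PB0 (.leaf 0)) (.leaf 0)), 16, 4⟩

/-- The words of `lv4`. -/
def lv4W : List (List ℕ) := [[0], [0, 1, 0, 1], [1, 2, 3, 4, 1, 2, 3, 4, 1, 2, 3, 4, 1, 2, 3, 4, 1, 2, 3, 4, 1, 2, 3, 4, 1, 2, 3, 4]]

/-- An orbit of 2 points. -/
def lv4 : Orb := ⟨2, lv4E, lv4P⟩

end Cfsg.Agent.Spor.Cos.He
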