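import Cfsg.Agent.Lib.Spor.Cos.Orb

/-! Data and checks for a presented sporadic group. -/

set_option autoImplicit false
set_option maxRecDepth 100000
set_option maxHeartbeats 4000000

namespace Cfsg.Agent.Spor.Cos.He

def lv5EB0 : Bst := .leaf 0x42000000000008

/-- The table lv5E. -/
def lv5E : Tab := ⟨lv5EB0, 48, 4⟩

def lv5PB0 : Bst := .node 16 (.node 8 (.node 4 (.leaf 0) (.node 6 (.node 5 (.leaf 0x100000000) (.leaf 0)) (.leaf 0))) (.leaf 0)) (.leaf 0)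

/-- The table lv5P. -/
def lv5P : Tab := ⟨(.node 64 (.node 32 lv5PB0 (.leaf 0)) (.leaf 0)), 16, 4⟩

/-- The words of `lv5`. -/
def lv5W : List (List ℕ) := [[0], [1, 2, 3, 4, 1, 2, 3, 4, 1, 2, 3, 4, 1, 2, 3, 4, 1, 2, 3, 4, 1, 2, 3, 4, 1, 2, 3, 4]]

/-- An orbit of 2 points. -/
def lv5 : Orb := ⟨2, lv5E, lv5P⟩

end Cfsg.Agent.Spor.Cos.He
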