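import Cfsg.Agent.Lib.Spor.Cos.Orb

/-! Data and checks for a presented sporadic group. -/

set_option autoImplicit false
set_option maxRecDepth 100000
set_option maxHeartbeats 4000000

namespace Cfsg.Agent.Spor.Cos.He

def lv6EB0 : Bst := .leaf 0x1000f0000000005a500000000059b

/-- The table lv6E. -/
def lv6E : Tab := ⟨lv6EB0, 48, 4⟩

def lv6PB0 : Bst := .node 16 (.node 8 (.node 4 (.node 2 (.node 1 (.leaf 0x2000000000000000000000000000000000000000000000000000000000000) (.leaf 0)) (.leaf 0)) (.leaf 0)) (.leaf 0)) (.leaf 0)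

def lv6PB1 : Bst := .node 80 (.leaf 0) (.node 88 (.leaf 0) (.node 92 (.node 90 (.leaf 0) (.node 91 (.leaf 0x100000000000000000000) (.leaf 0))) (.leaf 0)))

/-- The table lv6P. -/
def lv6P : Tab := ⟨(.node 64 (.node 32 lv6PB0 (.leaf 0)) (.node 96 lv6PB1 (.leaf 0))), 16, 4⟩

/-- The words of `lv6`. -/
def lv6W : List (List ℕ) := [[1, 2, 3, 4, 1, 2, 3, 4, 1, 2, 3, 4, 1, 2, 3, 4, 1, 2, 3, 4, 1, 2, 3, 4, 1, 2, 3, 4]]

/-- An orbit of 3 points. -/
def lv6 : Orb := ⟨3, lv6E, lv6P⟩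

end Cfsg.Agent.Spor.Cos.He
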