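import Cfsg.Agent.Lib.Spor.Cos.Orb

/-! Data and checks for a presented sporadic group. -/

set_option autoImplicit false
set_option maxRecDepth 100000
set_option maxHeartbeats 4000000

namespace Cfsg.Agent.Spor.Cos.He

def nn0EB0 : Bst := .node 3 (.node 1 (.leaf 0x40003000b00020003000a00110002000c000f0002002900040002000900110001001a00070001000800040001000700030001000600010001000500070000000e000400000004000300000003000100000002000000000001000000000000) (.node 2 (.leaf 0x50008001d000400070011001300060044001100060031000f0006003500040006000f000f0005004900120004004e001000040040000e0004003d000d0004000d00070004001e00130003003c001100030041000f00030012000c00030010) (.leaf 0x10000b0018000e000b002a000d000b0016000c000b001f0002000b0015000e000a0045000c000a001b0007000a002d0003000a00210002000a00230001000a002b00110009003e00120008004f001000080042000d00080013000700080014))) (.node 4 (.leaf 0x400130028000200130043001300120039000d0012004a000c001200270007001200260012000f00370010000f003f000e000f0030000d000f00170005000f0025000d000d00190007000d00220005000d00240007000c002c0012000b0038) (.node 5 (.leaf 0x11002a0046001100290050000e001e003a000e001c00520007001c004b0001001c00470000001c003b0013001a00320012001a002f000e001a0036000d001a00200005001a002e00030015001c000d0014003400020014003300110013004c)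 (.leaf 0x130043004d0013003500530013003000540013002f00480013002b0051)))

/-- The table nn0E. -/
def nn0E : Tab := ⟨nn0EB0, 48, 4⟩

def nn0PB0 : Bst := .node 3 (.node 1 (.leaf 0x1a00050015000d000f000e000b000900080007000600040003000200010000) (.node 2 (.leaf 0x2c0014001f00430029000a0034002f0036002d002b002000210011001e0010) (.leaf 0x470044002800310025002e000c003f003b003a003500320026003300270045))) (.node 4 (.leaf 0x380024001600130049004d003d003000390046001b004200410048001c0037) (.node 5 (.leaf 0x23001800540040004b003c00190051004a004f002a001d003e002200120017) (.leaf 0x520053004c0050004e)))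

/-- The table nn0P. -/
def nn0P : Tab := ⟨nn0PB0, 16, 4⟩

/-- The words of `nn0`. -/
def nn0W : List (List ℕ) := [[0], [1], [2], [3], [4], [6], [5, 0, 5], [5, 1, 5], [5, 2, 5], [5, 3, 5], [5, 4, 5], [5, 6, 5], [0, 2], [0, 6], [3, 2, 1, 2, 3], [3, 2, 4, 2, 3], [0, 5, 1, 5, 2, 1], [1, 4, 2, 1, 2, 6, 4, 1], [2, 5, 1, 5, 2, 1], [3, 2, 4, 2, 3, 1, 2, 5, 1, 5, 6, 3, 2, 4, 2, 3, 0, 2]]

/-- An orbit of 85 points. -/
def nn0 : Orb := ⟨85, nn0E, nn0P⟩

end Cfsg.Agent.Spor.Cos.He
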