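import Cfsg.Agent.Lib.Spor.Cos.Orb

/-! Data and checks for a presented sporadic group. -/

set_option autoImplicit false
set_option maxRecDepth 100000
set_option maxHeartbeats 4000000

namespace Cfsg.Agent.Spor.Cos.He

def nn1EB0 : Bst := .node 1 (.leaf 0x50004004600060003004f00040003004200030003000a00050002005000030002001900020002004300010002000c00060001004900040001002900030001001300020001004500010001000700000001001b00050000001a000000000001) (.leaf 0x50009004b00050007000600050006000e000300060002)

/-- The table nn1E. -/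
def nn1E : Tab := ⟨nn1EB0, 48, 4⟩

def nn1PB0 : Bst := .node 3 (.node 1 (.leaf 0x11000000080000000c0000000000030012000000000000001000000000) (.node 2 (.leaf 0x20001000a000000000000000000000005000000000000) (.leaf 0x6000000000000000000000000000000000000))) (.node 4 (.leaf 0) (.node 5 (.leaf 0xe00000000000000130000000700000000000f000400000009000d00000000) (.leaf 0xb)))

/-- The table nn1P. -/
def nn1P : Tab := ⟨nn1PB0, 16, 4⟩

/-- The words of `nn1`. -/
def nn1W : List (List ℕ) := [[0, 2], [0, 6], [3, 2, 1, 2, 3], [3, 2, 4, 2, 3], [0, 5, 1, 5, 2, 1], [1, 4, 2, 1, 2, 6, 4, 1], [2, 5, 1, 5, 2, 1], [3, 2, 4, 2, 3, 1, 2, 5, 1, 5, 6, 3, 2, 4, 2, 3, 0, 2]]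

/-- An orbit of 20 points. -/
def nn1 : Orb := ⟨20, nn1E, nn1P⟩

end Cfsg.Agent.Spor.Cos.He
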