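import Cfsg.Agent.Lib.Spor.Cos.Orb

/-! Data and checks for a presented sporadic group. -/

set_option autoImplicit false
set_option maxRecDepth 100000
set_option maxHeartbeats 4000000

namespace Cfsg.Agent.Spor.Cos.He

def nn2EB0 : Bst := .leaf 0x50008001b00040008001a00040007004500010007004300050005001900040005001300030004000700040003004f00010003004200030002000c00030001004900020001000a00030000002900020000000600000000000e000000000002

/-- The table nn2E. -/
def nn2E : Tab := ⟨nn2EB0, 48, 4⟩

def nn2PB0 : Bst := .node 3 (.node 1 (.leaf 0x100000006000000040000000000090002000000000000000000000000) (.node 2 (.leaf 0xf000e000b00000000000000000000000a000000000000) (.leaf 0x3000000000000000000000000000000000000))) (.node 4 (.leaf 0) (.node 5 (.leaf 0x8000000000000000000000005000000000000000d0000000c000700000000) (.leaf 0)))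

/-- The table nn2P. -/
def nn2P : Tab := ⟨nn2PB0, 16, 4⟩

/-- The words of `nn2`. -/
def nn2W : List (List ℕ) := [[0, 2], [0, 6], [3, 2, 1, 2, 3], [3, 2, 4, 2, 3], [0, 5, 1, 5, 2, 1], [2, 5, 1, 5, 2, 1], [3, 2, 4, 2, 3, 1, 2, 5, 1, 5, 6, 3, 2, 4, 2, 3, 0, 2]]

/-- An orbit of 16 points. -/
def nn2 : Orb := ⟨16, nn2E, nn2P⟩

end Cfsg.Agent.Spor.Cos.He
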