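import Cfsg.Agent.Lib.Spor.Cos.Orb

/-! Data and checks for a presented sporadic group. -/

set_option autoImplicit false
set_option maxRecDepth 100000
set_option maxHeartbeats 4000000

namespace Cfsg.Agent.Spor.Cos.He

def nn3EB0 : Bst := .leaf 0x5003d00010004000400000004002400020003000d00020002001d00010002001200000002004e00020001002300010001000800020000003c000100000010000000000003

/-- The table nn3E. -/
def nn3E : Tab := ⟨nn3EB0, 48, 4⟩

def nn3PB0 : Bst := .node 3 (.node 1 (.leaf 0x800000000000000000003000000000000000a0000000000000000) (.node 2 (.leaf 0x70000000000000000000000000000000000000000000600000001) (.leaf 0x90004000000000000))) (.node 4 (.leaf 0xb0002000000000000000000000000000000000000000000000000) (.node 5 (.leaf 0x500000000000000000000000000000000000000000000000000000000) (.leaf 0)))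

/-- The table nn3P. -/
def nn3P : Tab := ⟨nn3PB0, 16, 4⟩

/-- The words of `nn3`. -/
def nn3W : List (List ℕ) := [[0, 6], [2, 5, 1, 5, 2, 1], [3, 2, 4, 2, 3, 1, 2, 5, 1, 5, 6, 3, 2, 4, 2, 3, 0, 2]]

/-- An orbit of 12 points. -/
def nn3 : Orb := ⟨12, nn3E, nn3P⟩

end Cfsg.Agent.Spor.Cos.He
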