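import Cfsg.Agent.Lib.Spor.Cos.He.Nn3Data
import Cfsg.Agent.Lib.Spor.Cos.He.ActCData

/-! Data and checks for a presented sporadic group. -/

set_option autoImplicit false
set_option maxRecDepth 100000
set_option maxHeartbeats 4000000

namespace Cfsg.Agent.Spor.Cos.He

theorem nn3_ents0 : allBlock (nn3.chkEnt actC nn3W 3) 12 512 0 = true := by decide +kernel


end Cfsg.Agent.Spor.Cos.He
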