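import Cfsg.Agent.Lib.Spor.Cos.Orb

/-! Data and checks for a presented sporadic group. -/

set_option autoImplicit false
set_option maxRecDepth 100000
set_option maxHeartbeats 4000000

namespace Cfsg.Agent.Spor.Cos.He

def nn4EB0 : Bst := .leaf 0x1001d00000000000d000000000004

/-- The table nn4E. -/
def nn4E : Tab := ⟨nn4EB0, 48, 4⟩

def nn4PB0 : Bst := .node 3 (.node 1 (.leaf 0x10000000000000000000000000000000000000000000000000000) (.node 2 (.leaf 0x20000000000000000000000000000000000000000000000000000) (.leaf 0))) (.leaf 0)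

/-- The table nn4P. -/
def nn4P : Tab := ⟨nn4PB0, 16, 4⟩

/-- The words of `nn4`. -/
def nn4W : List (List ℕ) := [[0, 6]]

/-- An orbit of 3 points. -/
def nn4 : Orb := ⟨3, nn4E, nn4P⟩

end Cfsg.Agent.Spor.Cos.He
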