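import Cfsg.Agent.Lib.Spor.Cos.He.RelPart0

/-! A checked coset enumeration. -/

set_option autoImplicit false
set_option maxRecDepth 100000
set_option maxHeartbeats 4000000

namespace Cfsg.Agent.Spor.Cos.He

theorem rel_def0 : allBlock rel.chkDef 125 512 0 = true := by decide +kernel

theorem rel_defs : ∀ i, i + 1 < rel.M → rel.chkDef i = true := by
  intro i hi
  change i + 1 < 126 at hi
  refine of_allBlock (n := 125) (size := 512) (by decide) (fun j hj => ?_) (by omega)
  have hj' : j < 1 := by omega
  interval_cases j
  · exact rel_def0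

theorem rel_facts : ∀ i, rel.M ≤ i + 1 → i < rel.nF → ∃ J, rel.chkFact i J = true := by
  exact rel.facts_of_covers (rel.covers_of_part _ _ _ rel_part0) rfl rfl

/-- The word shown to be trivial. -/
def relGoal : List ℕ := [2, 3, 4, 2, 3, 4, 2, 3, 4, 2, 3, 4, 2, 3, 4]

theorem rel_loop : rel.walk rel.nF 0 15 0x240004200047000c180023c00166000d3000d6800328002fe0008a000a28001080003400004 0 relGoal = true := by decide +kernel

theorem rel_derived : rel.rels.all (derivedOk rel.n relBase) = true := by decide +kernel

end Cfsg.Agent.Spor.Cos.He
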