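import Cfsg.Agent.Lib.Spor.Cos.He.TopData

/-! A checked coset enumeration. -/

set_option autoImplicit false
set_option maxRecDepth 100000
set_option maxHeartbeats 4000000

namespace Cfsg.Agent.Spor.Cos.He

theorem top_final302 : allBlock top.chkFinal 349860 512 302 = true := by decide +kernel

theorem top_final303 : allBlock top.chkFinal 349860 512 303 = true := by decide +kernel

theorem top_final304 : allBlock top.chkFinal 349860 512 304 = true := by decide +kernel

theorem top_final305 : allBlock top.chkFinal 349860 512 305 = true := by decide +kernel

theorem top_final306 : allBlock top.chkFinal 349860 512 306 = true := by decide +kernel

theorem top_final307 : allBlock top.chkFinal 349860 512 307 = true := by decide +kernel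

theorem top_final308 : allBlock top.chkFinal 349860 512 308 = true := by decide +kernel

theorem top_final309 : allBlock top.chkFinal 349860 512 309 = true := by decide +kernel

theorem top_final310 : allBlock top.chkFinal 349860 512 310 = true := by decide +kernel

theorem top_final311 : allBlock top.chkFinal 349860 512 311 = true := by decide +kernel

theorem top_final312 : allBlock top.chkFinal 349860 512 312 = true := by decide +kernel

theorem top_final313 : allBlock top.chkFinal 349860 512 313 = true := by decide +kernel

theorem top_final314 : allBlock top.chkFinal 349860 512 314 = true := by decide +kernel

theorem top_final315 : allBlock top.chkFinal 349860 512 315 = true := by decide +kernel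

theorem top_final316 : allBlock top.chkFinal 349860 512 316 = true := by decide +kernel

theorem top_final317 : allBlock top.chkFinal 349860 512 317 = true := by decide +kernel

theorem top_final318 : allBlock top.chkFinal 349860 512 318 = true := by decide +kernel

theorem top_final319 : allBlock top.chkFinal 349860 512 319 = true := by decide +kernel

theorem top_final320 : allBlock top.chkFinal 349860 512 320 = true := by decide +kernel

theorem top_final321 : allBlock top.chkFinal 349860 512 321 = true := by decide +kernel

theorem top_final322 : allBlock top.chkFinal 349860 512 322 = true := by decide +kernel

theorem top_final323 : allBlock top.chkFinal 349860 512 323 = true := by decide +kernel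

theorem top_final324 : allBlock top.chkFinal 349860 512 324 = true := by decide +kernel

theorem top_final325 : allBlock top.chkFinal 349860 512 325 = true := by decide +kernel

theorem top_final326 : allBlock top.chkFinal 349860 512 326 = true := by decide +kernel

theorem top_final327 : allBlock top.chkFinal 349860 512 327 = true := by decide +kernel

theorem top_final328 : allBlock top.chkFinal 349860 512 328 = true := by decide +kernel

theorem top_final329 : allBlock top.chkFinal 349860 512 329 = true := by decide +kernel

theorem top_final330 : allBlock top.chkFinal 349860 512 330 = true := by decide +kernel

theorem top_final331 : allBlock top.chkFinal 349860 512 331 = true := by decide +kernel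

theorem top_final332 : allBlock top.chkFinal 349860 512 332 = true := by decide +kernel

theorem top_final333 : allBlock top.chkFinal 349860 512 333 = true := by decide +kernel

theorem top_final334 : allBlock top.chkFinal 349860 512 334 = true := by decide +kernel

theorem top_final335 : allBlock top.chkFinal 349860 512 335 = true := by decide +kernel

theorem top_final336 : allBlock top.chkFinal 349860 512 336 = true := by decide +kernel

theorem top_final337 : allBlock top.chkFinal 349860 512 337 = true := by decide +kernel

theorem top_final338 : allBlock top.chkFinal 349860 512 338 = true := by decide +kernel

theorem top_final339 : allBlock top.chkFinal 349860 512 339 = true := by decide +kernel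

theorem top_final340 : allBlock top.chkFinal 349860 512 340 = true := by decide +kernel

theorem top_final341 : allBlock top.chkFinal 349860 512 341 = true := by decide +kernel

end Cfsg.Agent.Spor.Cos.He
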