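import Cfsg.Agent.Lib.Spor.Cos.He.TopData

/-! A checked coset enumeration. -/

set_option autoImplicit false
set_option maxRecDepth 100000
set_option maxHeartbeats 4000000

namespace Cfsg.Agent.Spor.Cos.He

theorem top_final342 : allBlock top.chkFinal 349860 512 342 = true := by decide +kernel

theorem top_final343 : allBlock top.chkFinal 349860 512 343 = true := by decide +kernel

theorem top_final344 : allBlock top.chkFinal 349860 512 344 = true := by decide +kernel

theorem top_final345 : allBlock top.chkFinal 349860 512 345 = true := by decide +kernel

theorem top_final346 : allBlock top.chkFinal 349860 512 346 = true := by decide +kernel

theorem top_final347 : allBlock top.chkFinal 349860 512 347 = true := by decide +kernel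

theorem top_final348 : allBlock top.chkFinal 349860 512 348 = true := by decide +kernel

theorem top_final349 : allBlock top.chkFinal 349860 512 349 = true := by decide +kernel

theorem top_final350 : allBlock top.chkFinal 349860 512 350 = true := by decide +kernel

theorem top_final351 : allBlock top.chkFinal 349860 512 351 = true := by decide +kernel

theorem top_final352 : allBlock top.chkFinal 349860 512 352 = true := by decide +kernel

theorem top_final353 : allBlock top.chkFinal 349860 512 353 = true := by decide +kernel

theorem top_final354 : allBlock top.chkFinal 349860 512 354 = true := by decide +kernel

theorem top_final355 : allBlock top.chkFinal 349860 512 355 = true := by decide +kernel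

theorem top_final356 : allBlock top.chkFinal 349860 512 356 = true := by decide +kernel

theorem top_final357 : allBlock top.chkFinal 349860 512 357 = true := by decide +kernel

theorem top_final358 : allBlock top.chkFinal 349860 512 358 = true := by decide +kernel

theorem top_final359 : allBlock top.chkFinal 349860 512 359 = true := by decide +kernel

theorem top_final360 : allBlock top.chkFinal 349860 512 360 = true := by decide +kernel

theorem top_final361 : allBlock top.chkFinal 349860 512 361 = true := by decide +kernel

theorem top_final362 : allBlock top.chkFinal 349860 512 362 = true := by decide +kernel

theorem top_final363 : allBlock top.chkFinal 349860 512 363 = true := by decide +kernel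

theorem top_final364 : allBlock top.chkFinal 349860 512 364 = true := by decide +kernel

theorem top_final365 : allBlock top.chkFinal 349860 512 365 = true := by decide +kernel

theorem top_final366 : allBlock top.chkFinal 349860 512 366 = true := by decide +kernel

theorem top_final367 : allBlock top.chkFinal 349860 512 367 = true := by decide +kernel

theorem top_final368 : allBlock top.chkFinal 349860 512 368 = true := by decide +kernel

theorem top_final369 : allBlock top.chkFinal 349860 512 369 = true := by decide +kernel

theorem top_final370 : allBlock top.chkFinal 349860 512 370 = true := by decide +kernel

theorem top_final371 : allBlock top.chkFinal 349860 512 371 = true := by decide +kernel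

theorem top_final372 : allBlock top.chkFinal 349860 512 372 = true := by decide +kernel

theorem top_final373 : allBlock top.chkFinal 349860 512 373 = true := by decide +kernel

theorem top_final374 : allBlock top.chkFinal 349860 512 374 = true := by decide +kernel

theorem top_final375 : allBlock top.chkFinal 349860 512 375 = true := by decide +kernel

theorem top_final376 : allBlock top.chkFinal 349860 512 376 = true := by decide +kernel

theorem top_final377 : allBlock top.chkFinal 349860 512 377 = true := by decide +kernel

theorem top_final378 : allBlock top.chkFinal 349860 512 378 = true := by decide +kernel

theorem top_final379 : allBlock top.chkFinal 349860 512 379 = true := by decide +kernel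

theorem top_final380 : allBlock top.chkFinal 349860 512 380 = true := by decide +kernel

theorem top_final381 : allBlock top.chkFinal 349860 512 381 = true := by decide +kernel

end Cfsg.Agent.Spor.Cos.He
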