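import Cfsg.Agent.Lib.Spor.Cos.He.TopData

/-! A checked coset enumeration. -/

set_option autoImplicit false
set_option maxRecDepth 100000
set_option maxHeartbeats 4000000

namespace Cfsg.Agent.Spor.Cos.He

theorem top_final502 : allBlock top.chkFinal 349860 512 502 = true := by decide +kernel

theorem top_final503 : allBlock top.chkFinal 349860 512 503 = true := by decide +kernel

theorem top_final504 : allBlock top.chkFinal 349860 512 504 = true := by decide +kernel

theorem top_final505 : allBlock top.chkFinal 349860 512 505 = true := by decide +kernel

theorem top_final506 : allBlock top.chkFinal 349860 512 506 = true := by decide +kernel

theorem top_final507 : allBlock top.chkFinal 349860 512 507 = true := by decide +kernel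

theorem top_final508 : allBlock top.chkFinal 349860 512 508 = true := by decide +kernel

theorem top_final509 : allBlock top.chkFinal 349860 512 509 = true := by decide +kernel

theorem top_final510 : allBlock top.chkFinal 349860 512 510 = true := by decide +kernel

theorem top_final511 : allBlock top.chkFinal 349860 512 511 = true := by decide +kernel

theorem top_final512 : allBlock top.chkFinal 349860 512 512 = true := by decide +kernel

theorem top_final513 : allBlock top.chkFinal 349860 512 513 = true := by decide +kernel

theorem top_final514 : allBlock top.chkFinal 349860 512 514 = true := by decide +kernel

theorem top_final515 : allBlock top.chkFinal 349860 512 515 = true := by decide +kernel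

theorem top_final516 : allBlock top.chkFinal 349860 512 516 = true := by decide +kernel

theorem top_final517 : allBlock top.chkFinal 349860 512 517 = true := by decide +kernel

theorem top_final518 : allBlock top.chkFinal 349860 512 518 = true := by decide +kernel

theorem top_final519 : allBlock top.chkFinal 349860 512 519 = true := by decide +kernel

theorem top_final520 : allBlock top.chkFinal 349860 512 520 = true := by decide +kernel

theorem top_final521 : allBlock top.chkFinal 349860 512 521 = true := by decide +kernel

theorem top_final522 : allBlock top.chkFinal 349860 512 522 = true := by decide +kernel

theorem top_final523 : allBlock top.chkFinal 349860 512 523 = true := by decide +kernel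

theorem top_final524 : allBlock top.chkFinal 349860 512 524 = true := by decide +kernel

theorem top_final525 : allBlock top.chkFinal 349860 512 525 = true := by decide +kernel

theorem top_final526 : allBlock top.chkFinal 349860 512 526 = true := by decide +kernel

theorem top_final527 : allBlock top.chkFinal 349860 512 527 = true := by decide +kernel

theorem top_final528 : allBlock top.chkFinal 349860 512 528 = true := by decide +kernel

theorem top_final529 : allBlock top.chkFinal 349860 512 529 = true := by decide +kernel

theorem top_final530 : allBlock top.chkFinal 349860 512 530 = true := by decide +kernel

theorem top_final531 : allBlock top.chkFinal 349860 512 531 = true := by decide +kernel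

theorem top_final532 : allBlock top.chkFinal 349860 512 532 = true := by decide +kernel

theorem top_final533 : allBlock top.chkFinal 349860 512 533 = true := by decide +kernel

theorem top_final534 : allBlock top.chkFinal 349860 512 534 = true := by decide +kernel

theorem top_final535 : allBlock top.chkFinal 349860 512 535 = true := by decide +kernel

theorem top_final536 : allBlock top.chkFinal 349860 512 536 = true := by decide +kernel

theorem top_final537 : allBlock top.chkFinal 349860 512 537 = true := by decide +kernel

theorem top_final538 : allBlock top.chkFinal 349860 512 538 = true := by decide +kernel

theorem top_final539 : allBlock top.chkFinal 349860 512 539 = true := by decide +kernel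

theorem top_final540 : allBlock top.chkFinal 349860 512 540 = true := by decide +kernel

theorem top_final541 : allBlock top.chkFinal 349860 512 541 = true := by decide +kernel

end Cfsg.Agent.Spor.Cos.He
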