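import Cfsg.Agent.Lib.Spor.Cos.He.TopData

/-! A checked coset enumeration. -/

set_option autoImplicit false
set_option maxRecDepth 100000
set_option maxHeartbeats 4000000

namespace Cfsg.Agent.Spor.Cos.He

theorem top_final662 : allBlock top.chkFinal 349860 512 662 = true := by decide +kernel

theorem top_final663 : allBlock top.chkFinal 349860 512 663 = true := by decide +kernel

theorem top_final664 : allBlock top.chkFinal 349860 512 664 = true := by decide +kernel

theorem top_final665 : allBlock top.chkFinal 349860 512 665 = true := by decide +kernel

theorem top_final666 : allBlock top.chkFinal 349860 512 666 = true := by decide +kernel

theorem top_final667 : allBlock top.chkFinal 349860 512 667 = true := by decide +kernel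

theorem top_final668 : allBlock top.chkFinal 349860 512 668 = true := by decide +kernel

theorem top_final669 : allBlock top.chkFinal 349860 512 669 = true := by decide +kernel

theorem top_final670 : allBlock top.chkFinal 349860 512 670 = true := by decide +kernel

theorem top_final671 : allBlock top.chkFinal 349860 512 671 = true := by decide +kernel

theorem top_final672 : allBlock top.chkFinal 349860 512 672 = true := by decide +kernel

theorem top_final673 : allBlock top.chkFinal 349860 512 673 = true := by decide +kernel

theorem top_final674 : allBlock top.chkFinal 349860 512 674 = true := by decide +kernel

theorem top_final675 : allBlock top.chkFinal 349860 512 675 = true := by decide +kernel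

theorem top_final676 : allBlock top.chkFinal 349860 512 676 = true := by decide +kernel

theorem top_final677 : allBlock top.chkFinal 349860 512 677 = true := by decide +kernel

theorem top_final678 : allBlock top.chkFinal 349860 512 678 = true := by decide +kernel

theorem top_final679 : allBlock top.chkFinal 349860 512 679 = true := by decide +kernel

theorem top_final680 : allBlock top.chkFinal 349860 512 680 = true := by decide +kernel

theorem top_final681 : allBlock top.chkFinal 349860 512 681 = true := by decide +kernel

theorem top_final682 : allBlock top.chkFinal 349860 512 682 = true := by decide +kernel

theorem top_final683 : allBlock top.chkFinal 349860 512 683 = true := by decide +kernel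

end Cfsg.Agent.Spor.Cos.He
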