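import Cfsg.Agent.Lib.Spor.Cos.He.TopData

/-! A checked coset enumeration. -/

set_option autoImplicit false
set_option maxRecDepth 100000
set_option maxHeartbeats 4000000

namespace Cfsg.Agent.Spor.Cos.He

theorem top_final22 : allBlock top.chkFinal 349860 512 22 = true := by decide +kernel

theorem top_final23 : allBlock top.chkFinal 349860 512 23 = true := by decide +kernel

theorem top_final24 : allBlock top.chkFinal 349860 512 24 = true := by decide +kernel

theorem top_final25 : allBlock top.chkFinal 349860 512 25 = true := by decide +kernel

theorem top_final26 : allBlock top.chkFinal 349860 512 26 = true := by decide +kernel

theorem top_final27 : allBlock top.chkFinal 349860 512 27 = true := by decide +kernel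

theorem top_final28 : allBlock top.chkFinal 349860 512 28 = true := by decide +kernel

theorem top_final29 : allBlock top.chkFinal 349860 512 29 = true := by decide +kernel

theorem top_final30 : allBlock top.chkFinal 349860 512 30 = true := by decide +kernel

theorem top_final31 : allBlock top.chkFinal 349860 512 31 = true := by decide +kernel

theorem top_final32 : allBlock top.chkFinal 349860 512 32 = true := by decide +kernel

theorem top_final33 : allBlock top.chkFinal 349860 512 33 = true := by decide +kernel

theorem top_final34 : allBlock top.chkFinal 349860 512 34 = true := by decide +kernel

theorem top_final35 : allBlock top.chkFinal 349860 512 35 = true := by decide +kernel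

theorem top_final36 : allBlock top.chkFinal 349860 512 36 = true := by decide +kernel

theorem top_final37 : allBlock top.chkFinal 349860 512 37 = true := by decide +kernel

theorem top_final38 : allBlock top.chkFinal 349860 512 38 = true := by decide +kernel

theorem top_final39 : allBlock top.chkFinal 349860 512 39 = true := by decide +kernel

theorem top_final40 : allBlock top.chkFinal 349860 512 40 = true := by decide +kernel

theorem top_final41 : allBlock top.chkFinal 349860 512 41 = true := by decide +kernel

theorem top_final42 : allBlock top.chkFinal 349860 512 42 = true := by decide +kernel

theorem top_final43 : allBlock top.chkFinal 349860 512 43 = true := by decide +kernel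

theorem top_final44 : allBlock top.chkFinal 349860 512 44 = true := by decide +kernel

theorem top_final45 : allBlock top.chkFinal 349860 512 45 = true := by decide +kernel

theorem top_final46 : allBlock top.chkFinal 349860 512 46 = true := by decide +kernel

theorem top_final47 : allBlock top.chkFinal 349860 512 47 = true := by decide +kernel

theorem top_final48 : allBlock top.chkFinal 349860 512 48 = true := by decide +kernel

theorem top_final49 : allBlock top.chkFinal 349860 512 49 = true := by decide +kernel

theorem top_final50 : allBlock top.chkFinal 349860 512 50 = true := by decide +kernel

theorem top_final51 : allBlock top.chkFinal 349860 512 51 = true := by decide +kernel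

theorem top_final52 : allBlock top.chkFinal 349860 512 52 = true := by decide +kernel

theorem top_final53 : allBlock top.chkFinal 349860 512 53 = true := by decide +kernel

theorem top_final54 : allBlock top.chkFinal 349860 512 54 = true := by decide +kernel

theorem top_final55 : allBlock top.chkFinal 349860 512 55 = true := by decide +kernel

theorem top_final56 : allBlock top.chkFinal 349860 512 56 = true := by decide +kernel

theorem top_final57 : allBlock top.chkFinal 349860 512 57 = true := by decide +kernel

theorem top_final58 : allBlock top.chkFinal 349860 512 58 = true := by decide +kernel

theorem top_final59 : allBlock top.chkFinal 349860 512 59 = true := by decide +kernel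

theorem top_final60 : allBlock top.chkFinal 349860 512 60 = true := by decide +kernel

theorem top_final61 : allBlock top.chkFinal 349860 512 61 = true := by decide +kernel

end Cfsg.Agent.Spor.Cos.He
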