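import Cfsg.Agent.Lib.Spor.Cos.He.TopData

/-! A checked coset enumeration. -/

set_option autoImplicit false
set_option maxRecDepth 100000
set_option maxHeartbeats 4000000

namespace Cfsg.Agent.Spor.Cos.He

theorem top_final142 : allBlock top.chkFinal 349860 512 142 = true := by decide +kernel

theorem top_final143 : allBlock top.chkFinal 349860 512 143 = true := by decide +kernel

theorem top_final144 : allBlock top.chkFinal 349860 512 144 = true := by decide +kernel

theorem top_final145 : allBlock top.chkFinal 349860 512 145 = true := by decide +kernel

theorem top_final146 : allBlock top.chkFinal 349860 512 146 = true := by decide +kernel

theorem top_final147 : allBlock top.chkFinal 349860 512 147 = true := by decide +kernel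

theorem top_final148 : allBlock top.chkFinal 349860 512 148 = true := by decide +kernel

theorem top_final149 : allBlock top.chkFinal 349860 512 149 = true := by decide +kernel

theorem top_final150 : allBlock top.chkFinal 349860 512 150 = true := by decide +kernel

theorem top_final151 : allBlock top.chkFinal 349860 512 151 = true := by decide +kernel

theorem top_final152 : allBlock top.chkFinal 349860 512 152 = true := by decide +kernel

theorem top_final153 : allBlock top.chkFinal 349860 512 153 = true := by decide +kernel

theorem top_final154 : allBlock top.chkFinal 349860 512 154 = true := by decide +kernel

theorem top_final155 : allBlock top.chkFinal 349860 512 155 = true := by decide +kernel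

theorem top_final156 : allBlock top.chkFinal 349860 512 156 = true := by decide +kernel

theorem top_final157 : allBlock top.chkFinal 349860 512 157 = true := by decide +kernel

theorem top_final158 : allBlock top.chkFinal 349860 512 158 = true := by decide +kernel

theorem top_final159 : allBlock top.chkFinal 349860 512 159 = true := by decide +kernel

theorem top_final160 : allBlock top.chkFinal 349860 512 160 = true := by decide +kernel

theorem top_final161 : allBlock top.chkFinal 349860 512 161 = true := by decide +kernel

theorem top_final162 : allBlock top.chkFinal 349860 512 162 = true := by decide +kernel

theorem top_final163 : allBlock top.chkFinal 349860 512 163 = true := by decide +kernel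

theorem top_final164 : allBlock top.chkFinal 349860 512 164 = true := by decide +kernel

theorem top_final165 : allBlock top.chkFinal 349860 512 165 = true := by decide +kernel

theorem top_final166 : allBlock top.chkFinal 349860 512 166 = true := by decide +kernel

theorem top_final167 : allBlock top.chkFinal 349860 512 167 = true := by decide +kernel

theorem top_final168 : allBlock top.chkFinal 349860 512 168 = true := by decide +kernel

theorem top_final169 : allBlock top.chkFinal 349860 512 169 = true := by decide +kernel

theorem top_final170 : allBlock top.chkFinal 349860 512 170 = true := by decide +kernel

theorem top_final171 : allBlock top.chkFinal 349860 512 171 = true := by decide +kernel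

theorem top_final172 : allBlock top.chkFinal 349860 512 172 = true := by decide +kernel

theorem top_final173 : allBlock top.chkFinal 349860 512 173 = true := by decide +kernel

theorem top_final174 : allBlock top.chkFinal 349860 512 174 = true := by decide +kernel

theorem top_final175 : allBlock top.chkFinal 349860 512 175 = true := by decide +kernel

theorem top_final176 : allBlock top.chkFinal 349860 512 176 = true := by decide +kernel

theorem top_final177 : allBlock top.chkFinal 349860 512 177 = true := by decide +kernel

theorem top_final178 : allBlock top.chkFinal 349860 512 178 = true := by decide +kernel

theorem top_final179 : allBlock top.chkFinal 349860 512 179 = true := by decide +kernel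

theorem top_final180 : allBlock top.chkFinal 349860 512 180 = true := by decide +kernel

theorem top_final181 : allBlock top.chkFinal 349860 512 181 = true := by decide +kernel

end Cfsg.Agent.Spor.Cos.He
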