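import Cfsg.Agent.Lib.Spor.Cos.He.TopPart0
import Cfsg.Agent.Lib.Spor.Cos.He.TopPart1
import Cfsg.Agent.Lib.Spor.Cos.He.TopPart2
import Cfsg.Agent.Lib.Spor.Cos.He.TopPart3
import Cfsg.Agent.Lib.Spor.Cos.He.TopPart4
import Cfsg.Agent.Lib.Spor.Cos.He.TopPart5
import Cfsg.Agent.Lib.Spor.Cos.He.TopPart6
import Cfsg.Agent.Lib.Spor.Cos.He.TopPart7
import Cfsg.Agent.Lib.Spor.Cos.He.TopPart8
import Cfsg.Agent.Lib.Spor.Cos.He.TopPart9
import Cfsg.Agent.Lib.Spor.Cos.He.TopPart10
import Cfsg.Agent.Lib.Spor.Cos.He.TopPart11
import Cfsg.Agent.Lib.Spor.Cos.He.TopPart12
import Cfsg.Agent.Lib.Spor.Cos.He.TopPart13
import Cfsg.Agent.Lib.Spor.Cos.He.TopChk0
import Cfsg.Agent.Lib.Spor.Cos.He.TopChk1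
import Cfsg.Agent.Lib.Spor.Cos.He.TopChk2
import Cfsg.Agent.Lib.Spor.Cos.He.TopChk3
import Cfsg.Agent.Lib.Spor.Cos.He.TopChk4
import Cfsg.Agent.Lib.Spor.Cos.He.TopChk5
import Cfsg.Agent.Lib.Spor.Cos.He.TopChk6
import Cfsg.Agent.Lib.Spor.Cos.He.TopChk7
import Cfsg.Agent.Lib.Spor.Cos.He.TopChk8
import Cfsg.Agent.Lib.Spor.Cos.He.TopChk9
import Cfsg.Agent.Lib.Spor.Cos.He.TopChk10
import Cfsg.Agent.Lib.Spor.Cos.He.TopChk11
import Cfsg.Agent.Lib.Spor.Cos.He.TopChk12
import Cfsg.Agent.Lib.Spor.Cos.He.TopChk13
import Cfsg.Agent.Lib.Spor.Cos.He.TopChk14
import Cfsg.Agent.Lib.Spor.Cos.He.TopChk15
import Cfsg.Agent.Lib.Spor.Cos.He.TopChk16
import Cfsg.Agent.Lib.Spor.Cos.He.TopChk17
import Cfsg.Agent.Lib.Spor.Cos.He.TopChk18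
import Cfsg.Agent.Lib.Spor.Cos.He.TopChk19

/-! A checked coset enumeration. -/

set_option autoImplicit false
set_option maxRecDepth 100000
set_option maxHeartbeats 4000000

namespace Cfsg.Agent.Spor.Cos.He

theorem top_defs : ∀ i, i + 1 < top.M → top.chkDef i = true := by
  intro i hi
  change i + 1 < 49980 at hi
  refine of_allBlock (n := 49979) (size := 512) (by decide) (fun j hj => ?_) (by omega)
  have hj' : j < 98 := by omega
  interval_cases j
  · exact top_def0
  · exact top_def1
  · exact top_def2
  · exact top_def3
  · exact top_def4
  · exact top_def5
  · exact top_def6
  · exact top_def7
  · exact top_def8
  · exact top_def9
  · exact top_def10
  · exact top_def11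
  · exact top_def12
  · exact top_def13
  · exact top_def14
  · exact top_def15
  · exact top_def16
  · exact top_def17
  · exact top_def18
  · exact top_def19
  · exact top_def20
  · exact top_def21
  · exact top_def22
  · exact top_def23
  · exact top_def24
  · exact top_def25
  · exact top_def26
  · exact top_def27
  · exact top_def28
  · exact top_def29
  · exact top_def30
  · exact top_def31
  · exact top_def32
  · exact top_def33
  · exact top_def34
  · exact top_def35
  · exact top_def36
  · exact top_def37
  · exact top_def38
  · exact top_def39
  · exact top_def40
  · exact top_def41
  · exact top_def42
  · exact top_def43
  · exact top_def44
  · exact top_def45
  · exact top_def46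
  · exact top_def47
  · exact top_def48
  · exact top_def49
  · exact top_def50
  · exact top_def51
  · exact top_def52
  · exact top_def53
  · exact top_def54
  · exact top_def55
  · exact top_def56
  · exact top_def57
  · exact top_def58
  · exact top_def59
  · exact top_def60
  · exact top_def61
  · exact top_def62
  · exact top_def63
  · exact top_def64
  · exact top_def65
  · exact top_def66
  · exact top_def67
  · exact top_def68
  · exact top_def69
  · exact top_def70
  · exact top_def71
  · exact top_def72
  · exact top_def73
  · exact top_def74
  · exact top_def75
  · exact top_def76
  · exact top_def77
  · exact top_def78
  · exact top_def79
  · exact top_def80
  · exact top_def81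
  · exact top_def82
  · exact top_def83
  · exact top_def84
  · exact top_def85
  · exact top_def86
  · exact top_def87
  · exact top_def88
  · exact top_def89
  · exact top_def90
  · exact top_def91
  · exact top_def92
  · exact top_def93
  · exact top_def94
  · exact top_def95
  · exact top_def96
  · exact top_def97

theorem top_facts : ∀ i, top.M ≤ i + 1 → i < top.nF → ∃ J, top.chkFact i J = true := by
  exact top.facts_of_covers (Log.Covers.trans top (Log.Covers.trans top (Log.Covers.trans top (Log.Covers.trans top (Log.Covers.trans top (Log.Covers.trans top (Log.Covers.trans top (top.covers_of_part _ _ _ top_part0) (top.covers_of_part _ _ _ top_part1)) (Log.Covers.trans top (top.covers_of_part _ _ _ top_part2) (Log.Covers.trans top (top.covers_of_part _ _ _ top_part3) (top.covers_of_part _ _ _ top_part4)))) (Log.Covers.trans top (Log.Covers.trans top (top.covers_of_part _ _ _ top_part5) (top.covers_of_part _ _ _ top_part6)) (Log.Covers.trans top (top.covers_of_part _ _ _ top_part7) (Log.Covers.trans top (top.covers_of_part _ _ _ top_part8) (top.covers_of_part _ _ _ top_part9))))) (Log.Covers.trans top (Log.Covers.trans top (Log.Covers.trans top (top.covers_of_part _ _ _ top_part10) (top.covers_of_part _ _ _ top_part11)) (Log.Covers.trans top (top.covers_of_part _ _ _ top_part12) (Log.Covers.trans top (top.covers_of_part _ _ _ top_part13) (top.covers_of_part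 _ _ _ top_part14)))) (Log.Covers.trans top (Log.Covers.trans top (top.covers_of_part _ _ _ top_part15) (top.covers_of_part _ _ _ top_part16)) (Log.Covers.trans top (top.covers_of_part _ _ _ top_part17) (Log.Covers.trans top (top.covers_of_part _ _ _ top_part18) (top.covers_of_part _ _ _ top_part19)))))) (Log.Covers.trans top (Log.Covers.trans top (Log.Covers.trans top (Log.Covers.trans top (top.covers_of_part _ _ _ top_part20) (top.covers_of_part _ _ _ top_part21)) (Log.Covers.trans top (top.covers_of_part _ _ _ top_part22) (Log.Covers.trans top (top.covers_of_part _ _ _ top_part23) (top.covers_of_part _ _ _ top_part24)))) (Log.Covers.trans top (Log.Covers.trans top (top.covers_of_part _ _ _ top_part25) (top.covers_of_part _ _ _ top_part26)) (Log.Covers.trans top (top.covers_of_part _ _ _ top_part27) (Log.Covers.trans top (top.covers_of_part _ _ _ top_part28) (top.covers_of_part _ _ _ top_part29))))) (Log.Covers.trans top (Log.Covers.trans top (Log.Covers.trans top (top.covers_of_part _ _ _ top_part30) (top.covers_of_part _ _ _ top_part31)) (Log.Covers.trans top (top.covers_of_part _ _ _ top_part32) (Log.Covers.trans top (top.covers_of_part _ _ _ top_part33) (top.covers_of_part _ _ _ top_part34)))) (Log.Covers.trans top (Log.Covers.trans top (top.covers_of_part _ _ _ top_part35) (top.covers_of_part _ _ _ top_part36)) (Log.Covers.trans top (top.covers_of_part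 _ _ _ top_part37) (Log.Covers.trans top (top.covers_of_part _ _ _ top_part38) (top.covers_of_part _ _ _ top_part39))))))) (Log.Covers.trans top (Log.Covers.trans top (Log.Covers.trans top (Log.Covers.trans top (Log.Covers.trans top (top.covers_of_part _ _ _ top_part40) (top.covers_of_part _ _ _ top_part41)) (Log.Covers.trans top (top.covers_of_part _ _ _ top_part42) (Log.Covers.trans top (top.covers_of_part _ _ _ top_part43) (top.covers_of_part _ _ _ top_part44)))) (Log.Covers.trans top (Log.Covers.trans top (top.covers_of_part _ _ _ top_part45) (top.covers_of_part _ _ _ top_part46)) (Log.Covers.trans top (top.covers_of_part _ _ _ top_part47) (Log.Covers.trans top (top.covers_of_part _ _ _ top_part48) (top.covers_of_part _ _ _ top_part49))))) (Log.Covers.trans top (Log.Covers.trans top (Log.Covers.trans top (top.covers_of_part _ _ _ top_part50) (top.covers_of_part _ _ _ top_part51)) (Log.Covers.trans top (top.covers_of_part _ _ _ top_part52) (Log.Covers.trans top (top.covers_of_part _ _ _ top_part53) (top.covers_of_part _ _ _ top_part54)))) (Log.Covers.trans top (Log.Covers.trans top (top.covers_of_part _ _ _ top_part55) (top.covers_of_part _ _ _ top_part56)) (Log.Covers.trans top (top.covers_of_part _ _ _ top_part57) (Log.Covers.trans top (top.covers_of_part _ _ _ top_part58) (top.covers_of_part _ _ _ top_part59)))))) (Log.Covers.trans top (Log.Covers.trans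 top (Log.Covers.trans top (Log.Covers.trans top (top.covers_of_part _ _ _ top_part60) (top.covers_of_part _ _ _ top_part61)) (Log.Covers.trans top (top.covers_of_part _ _ _ top_part62) (Log.Covers.trans top (top.covers_of_part _ _ _ top_part63) (top.covers_of_part _ _ _ top_part64)))) (Log.Covers.trans top (Log.Covers.trans top (top.covers_of_part _ _ _ top_part65) (top.covers_of_part _ _ _ top_part66)) (Log.Covers.trans top (top.covers_of_part _ _ _ top_part67) (Log.Covers.trans top (top.covers_of_part _ _ _ top_part68) (top.covers_of_part _ _ _ top_part69))))) (Log.Covers.trans top (Log.Covers.trans top (Log.Covers.trans top (top.covers_of_part _ _ _ top_part70) (top.covers_of_part _ _ _ top_part71)) (Log.Covers.trans top (top.covers_of_part _ _ _ top_part72) (Log.Covers.trans top (top.covers_of_part _ _ _ top_part73) (top.covers_of_part _ _ _ top_part74)))) (Log.Covers.trans top (Log.Covers.trans top (top.covers_of_part _ _ _ top_part75) (Log.Covers.trans top (top.covers_of_part _ _ _ top_part76) (top.covers_of_part _ _ _ top_part77))) (Log.Covers.trans top (top.covers_of_part _ _ _ top_part78) (Log.Covers.trans top (top.covers_of_part _ _ _ top_part79) (top.covers_of_part _ _ _ top_part80)))))))) (Log.Covers.trans top (Log.Covers.trans top (Log.Covers.trans top (Log.Covers.trans top (Log.Covers.trans top (Log.Covers.trans top (top.covers_of_part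 _ _ _ top_part81) (top.covers_of_part _ _ _ top_part82)) (Log.Covers.trans top (top.covers_of_part _ _ _ top_part83) (Log.Covers.trans top (top.covers_of_part _ _ _ top_part84) (top.covers_of_part _ _ _ top_part85)))) (Log.Covers.trans top (Log.Covers.trans top (top.covers_of_part _ _ _ top_part86) (top.covers_of_part _ _ _ top_part87)) (Log.Covers.trans top (top.covers_of_part _ _ _ top_part88) (Log.Covers.trans top (top.covers_of_part _ _ _ top_part89) (top.covers_of_part _ _ _ top_part90))))) (Log.Covers.trans top (Log.Covers.trans top (Log.Covers.trans top (top.covers_of_part _ _ _ top_part91) (top.covers_of_part _ _ _ top_part92)) (Log.Covers.trans top (top.covers_of_part _ _ _ top_part93) (Log.Covers.trans top (top.covers_of_part _ _ _ top_part94) (top.covers_of_part _ _ _ top_part95)))) (Log.Covers.trans top (Log.Covers.trans top (top.covers_of_part _ _ _ top_part96) (top.covers_of_part _ _ _ top_part97)) (Log.Covers.trans top (top.covers_of_part _ _ _ top_part98) (Log.Covers.trans top (top.covers_of_part _ _ _ top_part99) (top.covers_of_part _ _ _ top_part100)))))) (Log.Covers.trans top (Log.Covers.trans top (Log.Covers.trans top (Log.Covers.trans top (top.covers_of_part _ _ _ top_part101) (top.covers_of_part _ _ _ top_part102)) (Log.Covers.trans top (top.covers_of_part _ _ _ top_part103) (Log.Covers.trans top (top.covers_of_part _ _ _ top_part104)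 (top.covers_of_part _ _ _ top_part105)))) (Log.Covers.trans top (Log.Covers.trans top (top.covers_of_part _ _ _ top_part106) (top.covers_of_part _ _ _ top_part107)) (Log.Covers.trans top (top.covers_of_part _ _ _ top_part108) (Log.Covers.trans top (top.covers_of_part _ _ _ top_part109) (top.covers_of_part _ _ _ top_part110))))) (Log.Covers.trans top (Log.Covers.trans top (Log.Covers.trans top (top.covers_of_part _ _ _ top_part111) (top.covers_of_part _ _ _ top_part112)) (Log.Covers.trans top (top.covers_of_part _ _ _ top_part113) (Log.Covers.trans top (top.covers_of_part _ _ _ top_part114) (top.covers_of_part _ _ _ top_part115)))) (Log.Covers.trans top (Log.Covers.trans top (top.covers_of_part _ _ _ top_part116) (Log.Covers.trans top (top.covers_of_part _ _ _ top_part117) (top.covers_of_part _ _ _ top_part118))) (Log.Covers.trans top (top.covers_of_part _ _ _ top_part119) (Log.Covers.trans top (top.covers_of_part _ _ _ top_part120) (top.covers_of_part _ _ _ top_part121))))))) (Log.Covers.trans top (Log.Covers.trans top (Log.Covers.trans top (Log.Covers.trans top (Log.Covers.trans top (top.covers_of_part _ _ _ top_part122) (top.covers_of_part _ _ _ top_part123)) (Log.Covers.trans top (top.covers_of_part _ _ _ top_part124) (Log.Covers.trans top (top.covers_of_part _ _ _ top_part125) (top.covers_of_part _ _ _ top_part126)))) (Log.Covers.trans top (Log.Covers.trans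 top (top.covers_of_part _ _ _ top_part127) (top.covers_of_part _ _ _ top_part128)) (Log.Covers.trans top (top.covers_of_part _ _ _ top_part129) (Log.Covers.trans top (top.covers_of_part _ _ _ top_part130) (top.covers_of_part _ _ _ top_part131))))) (Log.Covers.trans top (Log.Covers.trans top (Log.Covers.trans top (top.covers_of_part _ _ _ top_part132) (top.covers_of_part _ _ _ top_part133)) (Log.Covers.trans top (top.covers_of_part _ _ _ top_part134) (Log.Covers.trans top (top.covers_of_part _ _ _ top_part135) (top.covers_of_part _ _ _ top_part136)))) (Log.Covers.trans top (Log.Covers.trans top (top.covers_of_part _ _ _ top_part137) (top.covers_of_part _ _ _ top_part138)) (Log.Covers.trans top (top.covers_of_part _ _ _ top_part139) (Log.Covers.trans top (top.covers_of_part _ _ _ top_part140) (top.covers_of_part _ _ _ top_part141)))))) (Log.Covers.trans top (Log.Covers.trans top (Log.Covers.trans top (Log.Covers.trans top (top.covers_of_part _ _ _ top_part142) (top.covers_of_part _ _ _ top_part143)) (Log.Covers.trans top (top.covers_of_part _ _ _ top_part144) (Log.Covers.trans top (top.covers_of_part _ _ _ top_part145) (top.covers_of_part _ _ _ top_part146)))) (Log.Covers.trans top (Log.Covers.trans top (top.covers_of_part _ _ _ top_part147) (top.covers_of_part _ _ _ top_part148)) (Log.Covers.trans top (top.covers_of_part _ _ _ top_part149) (Log.Covers.trans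 top (top.covers_of_part _ _ _ top_part150) (top.covers_of_part _ _ _ top_part151))))) (Log.Covers.trans top (Log.Covers.trans top (Log.Covers.trans top (top.covers_of_part _ _ _ top_part152) (top.covers_of_part _ _ _ top_part153)) (Log.Covers.trans top (top.covers_of_part _ _ _ top_part154) (Log.Covers.trans top (top.covers_of_part _ _ _ top_part155) (top.covers_of_part _ _ _ top_part156)))) (Log.Covers.trans top (Log.Covers.trans top (top.covers_of_part _ _ _ top_part157) (Log.Covers.trans top (top.covers_of_part _ _ _ top_part158) (top.covers_of_part _ _ _ top_part159))) (Log.Covers.trans top (top.covers_of_part _ _ _ top_part160) (Log.Covers.trans top (top.covers_of_part _ _ _ top_part161) (top.covers_of_part _ _ _ top_part162))))))))) rfl rfl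

theorem top_checks : top.Checks where
  pos := by decide +kernel
  defs := top_defs
  facts := top_facts
  final := by
    intro k hk
    change k < 49980 * 7 at hk
    refine of_allBlock (n := 349860) (size := 512) (by decide) (fun j hj => ?_) (by omega)
    have hj' : j < 684 := by omega
    interval_cases j
    · exact top_final0
    · exact top_final1
    · exact top_final2
    · exact top_final3
    · exact top_final4
    · exact top_final5
    · exact top_final6
    · exact top_final7
    · exact top_final8
    · exact top_final9
    · exact top_final10
    · exact top_final11
    · exact top_final12
    · exact top_final13
    · exact top_final14
    · exact top_final15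
    · exact top_final16
    · exact top_final17
    · exact top_final18
    · exact top_final19
    · exact top_final20
    · exact top_final21
    · exact top_final22
    · exact top_final23
    · exact top_final24
    · exact top_final25
    · exact top_final26
    · exact top_final27
    · exact top_final28
    · exact top_final29
    · exact top_final30
    · exact top_final31
    · exact top_final32
    · exact top_final33
    · exact top_final34
    · exact top_final35
    · exact top_final36
    · exact top_final37
    · exact top_final38
    · exact top_final39
    · exact top_final40
    · exact top_final41
    · exact top_final42
    · exact top_final43
    · exact top_final44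
    · exact top_final45
    · exact top_final46
    · exact top_final47
    · exact top_final48
    · exact top_final49
    · exact top_final50
    · exact top_final51
    · exact top_final52
    · exact top_final53
    · exact top_final54
    · exact top_final55
    · exact top_final56
    · exact top_final57
    · exact top_final58
    · exact top_final59
    · exact top_final60
    · exact top_final61
    · exact top_final62
    · exact top_final63
    · exact top_final64
    · exact top_final65
    · exact top_final66
    · exact top_final67
    · exact top_final68
    · exact top_final69
    · exact top_final70
    · exact top_final71
    · exact top_final72
    · exact top_final73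
    · exact top_final74
    · exact top_final75
    · exact top_final76
    · exact top_final77
    · exact top_final78
    · exact top_final79
    · exact top_final80
    · exact top_final81
    · exact top_final82
    · exact top_final83
    · exact top_final84
    · exact top_final85
    · exact top_final86
    · exact top_final87
    · exact top_final88
    · exact top_final89
    · exact top_final90
    · exact top_final91
    · exact top_final92
    · exact top_final93
    · exact top_final94
    · exact top_final95
    · exact top_final96
    · exact top_final97
    · exact top_final98
    · exact top_final99
    · exact top_final100
    · exact top_final101
    · exact top_final102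
    · exact top_final103
    · exact top_final104
    · exact top_final105
    · exact top_final106
    · exact top_final107
    · exact top_final108
    · exact top_final109
    · exact top_final110
    · exact top_final111
    · exact top_final112
    · exact top_final113
    · exact top_final114
    · exact top_final115
    · exact top_final116
    · exact top_final117
    · exact top_final118
    · exact top_final119
    · exact top_final120
    · exact top_final121
    · exact top_final122
    · exact top_final123
    · exact top_final124
    · exact top_final125
    · exact top_final126
    · exact top_final127
    · exact top_final128
    · exact top_final129
    · exact top_final130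
    · exact top_final131
    · exact top_final132
    · exact top_final133
    · exact top_final134
    · exact top_final135
    · exact top_final136
    · exact top_final137
    · exact top_final138
    · exact top_final139
    · exact top_final140
    · exact top_final141
    · exact top_final142
    · exact top_final143
    · exact top_final144
    · exact top_final145
    · exact top_final146
    · exact top_final147
    · exact top_final148
    · exact top_final149
    · exact top_final150
    · exact top_final151
    · exact top_final152
    · exact top_final153
    · exact top_final154
    · exact top_final155
    · exact top_final156
    · exact top_final157
    · exact top_final158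
    · exact top_final159
    · exact top_final160
    · exact top_final161
    · exact top_final162
    · exact top_final163
    · exact top_final164
    · exact top_final165
    · exact top_final166
    · exact top_final167
    · exact top_final168
    · exact top_final169
    · exact top_final170
    · exact top_final171
    · exact top_final172
    · exact top_final173
    · exact top_final174
    · exact top_final175
    · exact top_final176
    · exact top_final177
    · exact top_final178
    · exact top_final179
    · exact top_final180
    · exact top_final181
    · exact top_final182
    · exact top_final183
    · exact top_final184
    · exact top_final185
    · exact top_final186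
    · exact top_final187
    · exact top_final188
    · exact top_final189
    · exact top_final190
    · exact top_final191
    · exact top_final192
    · exact top_final193
    · exact top_final194
    · exact top_final195
    · exact top_final196
    · exact top_final197
    · exact top_final198
    · exact top_final199
    · exact top_final200
    · exact top_final201
    · exact top_final202
    · exact top_final203
    · exact top_final204
    · exact top_final205
    · exact top_final206
    · exact top_final207
    · exact top_final208
    · exact top_final209
    · exact top_final210
    · exact top_final211
    · exact top_final212
    · exact top_final213
    · exact top_final214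
    · exact top_final215
    · exact top_final216
    · exact top_final217
    · exact top_final218
    · exact top_final219
    · exact top_final220
    · exact top_final221
    · exact top_final222
    · exact top_final223
    · exact top_final224
    · exact top_final225
    · exact top_final226
    · exact top_final227
    · exact top_final228
    · exact top_final229
    · exact top_final230
    · exact top_final231
    · exact top_final232
    · exact top_final233
    · exact top_final234
    · exact top_final235
    · exact top_final236
    · exact top_final237
    · exact top_final238
    · exact top_final239
    · exact top_final240
    · exact top_final241
    · exact top_final242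
    · exact top_final243
    · exact top_final244
    · exact top_final245
    · exact top_final246
    · exact top_final247
    · exact top_final248
    · exact top_final249
    · exact top_final250
    · exact top_final251
    · exact top_final252
    · exact top_final253
    · exact top_final254
    · exact top_final255
    · exact top_final256
    · exact top_final257
    · exact top_final258
    · exact top_final259
    · exact top_final260
    · exact top_final261
    · exact top_final262
    · exact top_final263
    · exact top_final264
    · exact top_final265
    · exact top_final266
    · exact top_final267
    · exact top_final268
    · exact top_final269
    · exact top_final270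
    · exact top_final271
    · exact top_final272
    · exact top_final273
    · exact top_final274
    · exact top_final275
    · exact top_final276
    · exact top_final277
    · exact top_final278
    · exact top_final279
    · exact top_final280
    · exact top_final281
    · exact top_final282
    · exact top_final283
    · exact top_final284
    · exact top_final285
    · exact top_final286
    · exact top_final287
    · exact top_final288
    · exact top_final289
    · exact top_final290
    · exact top_final291
    · exact top_final292
    · exact top_final293
    · exact top_final294
    · exact top_final295
    · exact top_final296
    · exact top_final297
    · exact top_final298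
    · exact top_final299
    · exact top_final300
    · exact top_final301
    · exact top_final302
    · exact top_final303
    · exact top_final304
    · exact top_final305
    · exact top_final306
    · exact top_final307
    · exact top_final308
    · exact top_final309
    · exact top_final310
    · exact top_final311
    · exact top_final312
    · exact top_final313
    · exact top_final314
    · exact top_final315
    · exact top_final316
    · exact top_final317
    · exact top_final318
    · exact top_final319
    · exact top_final320
    · exact top_final321
    · exact top_final322
    · exact top_final323
    · exact top_final324
    · exact top_final325
    · exact top_final326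
    · exact top_final327
    · exact top_final328
    · exact top_final329
    · exact top_final330
    · exact top_final331
    · exact top_final332
    · exact top_final333
    · exact top_final334
    · exact top_final335
    · exact top_final336
    · exact top_final337
    · exact top_final338
    · exact top_final339
    · exact top_final340
    · exact top_final341
    · exact top_final342
    · exact top_final343
    · exact top_final344
    · exact top_final345
    · exact top_final346
    · exact top_final347
    · exact top_final348
    · exact top_final349
    · exact top_final350
    · exact top_final351
    · exact top_final352
    · exact top_final353
    · exact top_final354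
    · exact top_final355
    · exact top_final356
    · exact top_final357
    · exact top_final358
    · exact top_final359
    · exact top_final360
    · exact top_final361
    · exact top_final362
    · exact top_final363
    · exact top_final364
    · exact top_final365
    · exact top_final366
    · exact top_final367
    · exact top_final368
    · exact top_final369
    · exact top_final370
    · exact top_final371
    · exact top_final372
    · exact top_final373
    · exact top_final374
    · exact top_final375
    · exact top_final376
    · exact top_final377
    · exact top_final378
    · exact top_final379
    · exact top_final380
    · exact top_final381
    · exact top_final382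
    · exact top_final383
    · exact top_final384
    · exact top_final385
    · exact top_final386
    · exact top_final387
    · exact top_final388
    · exact top_final389
    · exact top_final390
    · exact top_final391
    · exact top_final392
    · exact top_final393
    · exact top_final394
    · exact top_final395
    · exact top_final396
    · exact top_final397
    · exact top_final398
    · exact top_final399
    · exact top_final400
    · exact top_final401
    · exact top_final402
    · exact top_final403
    · exact top_final404
    · exact top_final405
    · exact top_final406
    · exact top_final407
    · exact top_final408
    · exact top_final409
    · exact top_final410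
    · exact top_final411
    · exact top_final412
    · exact top_final413
    · exact top_final414
    · exact top_final415
    · exact top_final416
    · exact top_final417
    · exact top_final418
    · exact top_final419
    · exact top_final420
    · exact top_final421
    · exact top_final422
    · exact top_final423
    · exact top_final424
    · exact top_final425
    · exact top_final426
    · exact top_final427
    · exact top_final428
    · exact top_final429
    · exact top_final430
    · exact top_final431
    · exact top_final432
    · exact top_final433
    · exact top_final434
    · exact top_final435
    · exact top_final436
    · exact top_final437
    · exact top_final438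
    · exact top_final439
    · exact top_final440
    · exact top_final441
    · exact top_final442
    · exact top_final443
    · exact top_final444
    · exact top_final445
    · exact top_final446
    · exact top_final447
    · exact top_final448
    · exact top_final449
    · exact top_final450
    · exact top_final451
    · exact top_final452
    · exact top_final453
    · exact top_final454
    · exact top_final455
    · exact top_final456
    · exact top_final457
    · exact top_final458
    · exact top_final459
    · exact top_final460
    · exact top_final461
    · exact top_final462
    · exact top_final463
    · exact top_final464
    · exact top_final465
    · exact top_final466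
    · exact top_final467
    · exact top_final468
    · exact top_final469
    · exact top_final470
    · exact top_final471
    · exact top_final472
    · exact top_final473
    · exact top_final474
    · exact top_final475
    · exact top_final476
    · exact top_final477
    · exact top_final478
    · exact top_final479
    · exact top_final480
    · exact top_final481
    · exact top_final482
    · exact top_final483
    · exact top_final484
    · exact top_final485
    · exact top_final486
    · exact top_final487
    · exact top_final488
    · exact top_final489
    · exact top_final490
    · exact top_final491
    · exact top_final492
    · exact top_final493
    · exact top_final494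
    · exact top_final495
    · exact top_final496
    · exact top_final497
    · exact top_final498
    · exact top_final499
    · exact top_final500
    · exact top_final501
    · exact top_final502
    · exact top_final503
    · exact top_final504
    · exact top_final505
    · exact top_final506
    · exact top_final507
    · exact top_final508
    · exact top_final509
    · exact top_final510
    · exact top_final511
    · exact top_final512
    · exact top_final513
    · exact top_final514
    · exact top_final515
    · exact top_final516
    · exact top_final517
    · exact top_final518
    · exact top_final519
    · exact top_final520
    · exact top_final521
    · exact top_final522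
    · exact top_final523
    · exact top_final524
    · exact top_final525
    · exact top_final526
    · exact top_final527
    · exact top_final528
    · exact top_final529
    · exact top_final530
    · exact top_final531
    · exact top_final532
    · exact top_final533
    · exact top_final534
    · exact top_final535
    · exact top_final536
    · exact top_final537
    · exact top_final538
    · exact top_final539
    · exact top_final540
    · exact top_final541
    · exact top_final542
    · exact top_final543
    · exact top_final544
    · exact top_final545
    · exact top_final546
    · exact top_final547
    · exact top_final548
    · exact top_final549
    · exact top_final550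
    · exact top_final551
    · exact top_final552
    · exact top_final553
    · exact top_final554
    · exact top_final555
    · exact top_final556
    · exact top_final557
    · exact top_final558
    · exact top_final559
    · exact top_final560
    · exact top_final561
    · exact top_final562
    · exact top_final563
    · exact top_final564
    · exact top_final565
    · exact top_final566
    · exact top_final567
    · exact top_final568
    · exact top_final569
    · exact top_final570
    · exact top_final571
    · exact top_final572
    · exact top_final573
    · exact top_final574
    · exact top_final575
    · exact top_final576
    · exact top_final577
    · exact top_final578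
    · exact top_final579
    · exact top_final580
    · exact top_final581
    · exact top_final582
    · exact top_final583
    · exact top_final584
    · exact top_final585
    · exact top_final586
    · exact top_final587
    · exact top_final588
    · exact top_final589
    · exact top_final590
    · exact top_final591
    · exact top_final592
    · exact top_final593
    · exact top_final594
    · exact top_final595
    · exact top_final596
    · exact top_final597
    · exact top_final598
    · exact top_final599
    · exact top_final600
    · exact top_final601
    · exact top_final602
    · exact top_final603
    · exact top_final604
    · exact top_final605
    · exact top_final606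
    · exact top_final607
    · exact top_final608
    · exact top_final609
    · exact top_final610
    · exact top_final611
    · exact top_final612
    · exact top_final613
    · exact top_final614
    · exact top_final615
    · exact top_final616
    · exact top_final617
    · exact top_final618
    · exact top_final619
    · exact top_final620
    · exact top_final621
    · exact top_final622
    · exact top_final623
    · exact top_final624
    · exact top_final625
    · exact top_final626
    · exact top_final627
    · exact top_final628
    · exact top_final629
    · exact top_final630
    · exact top_final631
    · exact top_final632
    · exact top_final633
    · exact top_final634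
    · exact top_final635
    · exact top_final636
    · exact top_final637
    · exact top_final638
    · exact top_final639
    · exact top_final640
    · exact top_final641
    · exact top_final642
    · exact top_final643
    · exact top_final644
    · exact top_final645
    · exact top_final646
    · exact top_final647
    · exact top_final648
    · exact top_final649
    · exact top_final650
    · exact top_final651
    · exact top_final652
    · exact top_final653
    · exact top_final654
    · exact top_final655
    · exact top_final656
    · exact top_final657
    · exact top_final658
    · exact top_final659
    · exact top_final660
    · exact top_final661
    · exact top_final662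
    · exact top_final663
    · exact top_final664
    · exact top_final665
    · exact top_final666
    · exact top_final667
    · exact top_final668
    · exact top_final669
    · exact top_final670
    · exact top_final671
    · exact top_final672
    · exact top_final673
    · exact top_final674
    · exact top_final675
    · exact top_final676
    · exact top_final677
    · exact top_final678
    · exact top_final679
    · exact top_final680
    · exact top_final681
    · exact top_final682
    · exact top_final683

theorem top_derived : top.rels.all (derivedOk top.n topBase) = true := by decide +kernel

end Cfsg.Agent.Spor.Cos.He
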