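import Cfsg.Agent.Lib.Spor.Cos.He.Words
import Cfsg.Agent.Lib.Spor.Cos.Cox
import Cfsg.Agent.Lib.Spor.Cos.Orb
import Cfsg.Prelude.Def_Spor_He
import Cfsg.Agent.Lib.Spor.Cos.He.TopCert
import Cfsg.Agent.Lib.Spor.Cos.He.MidCert
import Cfsg.Agent.Lib.Spor.Cos.He.LowCert
import Cfsg.Agent.Lib.Spor.Cos.He.RelCert

/-! Data and checks for a presented sporadic group. -/

set_option autoImplicit false
set_option maxRecDepth 100000
set_option maxHeartbeats 4000000

open Cfsg.Spor

namespace Cfsg.Agent.Spor.Cos.He

/-- The generators in order. -/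
def alph : List Spor.He.Gen := [.a, .b, .c, .d, .e, .f, .g]

/-- The place of a generator. -/
def num : Spor.He.Gen → ℕ
  | .a => 0
  | .b => 1
  | .c => 2
  | .d => 3
  | .e => 4
  | .f => 5
  | .g => 6

theorem pres : Pres Spor.He.edges Spor.He.extra alph num words where
  index := by intro a; cases a <;> rfl
  node := by intro a; cases a <;> decide
  order := rfl
  fromRels := by decide +kernel
  toBase := by decide +kernel

/-- The generators by number. -/
noncomputable def g : ℕ → Spor.He := gen Spor.He.edges Spor.He.extra alph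

theorem g_sq (s : ℕ) : g s * g s = 1 := pres.inv s

theorem g_words : ∀ w ∈ words, ev g w = 1 := fun _ hw => pres.ev_base hw

theorem g_gen : Subgroup.closure {x | ∃ s < 7, g s = x} = ⊤ := pres.closure_gen

/-- The relations with one more. -/
def words1 : List (List ℕ) := [2, 3, 4, 2, 3, 4, 2, 3, 4, 2, 3, 4, 2, 3, 4] :: words

theorem g_words1 : ∀ w ∈ words1, ev g w = 1 := by
  intro w hw
  rcases List.mem_cons.1 hw with rfl | hw
  · exact ev_eq_one_of_loop rel rel_defs rel_facts g_sq [0, 1, 2, 3, 4] 7
      (hbase_of g_sq g_words (n := 7) (by decide +kernel)) rel_derived rfl rel_loop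
  · exact g_words w hw

theorem upper : Finite Spor.He ∧ Nat.card Spor.He ≤ 4030387200 := by
  have h0 : Bound g [] 1 := Bound.nil
  have h1 : Bound g [0, 3, 4, 5, 6] 336 :=
    Bound.step (d := 7) g_sq h0 low low_checks rfl (by decide +kernel)
      (hbase_of g_sq g_words1 (n := 7) (by decide +kernel)) low_derived
  have h2 : Bound g [0, 2, 3, 4, 5, 6] 80640 :=
    Bound.step (d := 7) g_sq h1 mid mid_checks rfl (by decide +kernel)
      (hbase_of g_sq g_words1 (n := 7) (by decide +kernel)) mid_derived
  have h3 : Bound g [0, 1, 2, 3, 4, 5, 6] 4030387200 :=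
    Bound.step (d := 7) g_sq h2 top top_checks rfl (by decide +kernel)
      (hbase_of g_sq g_words1 (n := 7) (by decide +kernel)) top_derived
  exact Bound.top (n := 7) h3 g_gen

theorem finite : Finite Spor.He := upper.1

end Cfsg.Agent.Spor.Cos.He
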