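import Cfsg.Agent.Lib.Spor.Cos.Log

/-!
Data of a coset enumeration with 0 cosets.
-/

set_option autoImplicit false
set_option maxRecDepth 100000
set_option maxHeartbeats 4000000

namespace Cfsg.Agent.Spor.Cos.He

def relFactsT0 : Tree := .node (.node (.leaf 0x2000400002b40003f0002a30003e0002a10003d0002a20003c0002930003b0002810003a00028200039000273000380002640003700025200036000234000350002130003400021100033000213000320001e1000310001e4000300001b30002f0001a40002e0001940002d0001820002c0001730002b0001620002a00015300029000140000280001430002700013400026000121000250001220002400011300023000104000220000e2000210000e4000200000d30001f0000d00001e0000d30001d0000c40001c0000b10001b0000b40001a0000a2000190000a1000180000a300017000094000160000830001500007100014000074000130000600001200006300011000054000100000440000f0000330000e0000310000d0000340000c0000220000b0000200000a00002400009000013000080000120000700001100006000014000050000030000400000200003000001000020000000000100000) (.leaf 0x100032000431000150002910000e0001f10007d0007710007c0007640007b0007310007a00071100079000701000780006f2000770006d2000760006b40007500069400074000671000730006710007200066200071000652000700006420006f0006340006e0006230006d0006020006c0005e30006b0005c40006a0005a1000690005a40006800059200067000592000660005830006500057300064000563000630005520006200054300061000530000600005320005f0005230005e0005130005d0005040005c0004f40005b0004820005a00048300059000473000580004540005700044200056000432000550004230005400040100053000403000520003f4000510003e4000500003d00004f0003d10004e0003c20004d0003b30004c0003a10004b0003920004a00038300049000373000480003610004700036300046000354000450003430004400033300043000313000420002d1000410002c))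 (.node (.leaf 0x400046000584000170002b400011000232000750007b2000720007a2000410004b20003d0004e2000200003000006a0006e00005a00062000048000540000660006c0000390004a0000360004000005d0006b0000580005e000027000380000230002b00001d0002f000011000170000500005c0000450005100001c0002e000013000260000100001600000c0001a000005000092000680007420005b0006a2000220003520001a0002e20000c0001c2000050000f100058000651000520005d1000380004910002f00042100017000271000110001d1000740007b10006a0007510005b000681000450005710003f000501000260003710001c0003010001a0002d10000f00020100009000131000050000c0000340003e00003c0004d0000210002a0000610006d0000290003b00001f0003200000e000150000040000800000b0001900000300007100054000611000480005910003b0004c10003400044) (.leaf 0x3000660006a30007200075300079000783000700006f00007800075000079000722000790007c2000780007d1000640006b1000630006d00007b0007d00007a0007c1000600005510005c0005620003100037000042000490000430004c00002d000374000530004140006c0005f4000400002c400036000244000520005e))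

/-- The table relFacts. -/
def relFacts : Table := ⟨relFactsT0, 2, 44, 6⟩

def relFinalT0 : Tree := .leaf 0x0

/-- The table relFinal. -/
def relFinal : Table := ⟨relFinalT0, 0, 21, 6⟩

/-- The base words of `rel`. -/
def relBase : List (List ℕ) := [[0, 1, 0, 1, 0, 1, 0, 1], [0, 2, 0, 2], [0, 3, 0, 3], [0, 4, 0, 4], [1, 2, 1, 2, 1, 2], [1, 3, 1, 3], [1, 4, 1, 4], [2, 3, 2, 3, 2, 3, 2, 3, 2, 3, 2, 3, 2, 3, 2, 3, 2, 3, 2, 3], [2, 4, 2, 4], [3, 4, 3, 4, 3, 4], [4, 2, 1, 0, 2, 1, 0, 2, 1, 0], [0, 3, 2, 3, 2, 3, 2, 3, 2, 3, 2]]

/-- The certificate `rel`. -/
def rel : Log where
  n := 5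
  N := 0
  M := 126
  nF := 215
  facts := relFacts
  final := relFinal
  rels := [[1, 3, 1, 3], [0, 2, 0, 2], [0, 3, 0, 3], [1, 4, 1, 4], [2, 4, 2, 4], [0, 4, 0, 4], [1, 2, 1, 2, 1, 2], [3, 4, 3, 4, 3, 4], [0, 1, 0, 1, 0, 1, 0, 1], [4, 2, 1, 0, 2, 1, 0, 2, 1, 0], [0, 3, 2, 3, 2, 3, 2, 3, 2, 3, 2]]
  sub := []

end Cfsg.Agent.Spor.Cos.He
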