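import Cfsg.Agent.Lib.Spor.Cos.He.RelData

/-! Checks of the facts of a coset enumeration. -/

set_option autoImplicit false
set_option maxRecDepth 100000
set_option maxHeartbeats 4000000

namespace Cfsg.Agent.Spor.Cos.He

theorem rel_part0 : rel.chkPart 125 215 [(30, 0x168001300023e01010000480800000108000e00023a01010000280800000738003d0001c801010003380803000698003a0001a001010002d008030005a8003380020a01010002400803000448002b00020201010001a008030003e800278000f001010001500803000258001b000090010100009008030001b8001780006801010000580803000198001600005c010100005008030000e8000f80003001010000180803000088000900001401010000080803000048000580000401010000000803000338001e80022e010100010808020003b8002600022601010001480801000208001480021e01010000700801000608003600017c01010002980802000288001d00009c01010000a008020001e80018800074010100006808020000d8000a000212010100001808020000380003800000010100000008020000a8000c00002401010000100801000028000300000001010000000801000538003000014801010002000800000478002c00011801010001b008000003a800258000e40101000140080000033800218000c80101000108080000031800210000c001010000f00800000148001400004c010100003808000000d8000f00003001010000180800), (30, 0x27c00120000928005040023a02018000280c0600069800368002da01010002d0080500059800308002d60101000240080100047800298002ca01010001b0080200065800358002c201010002c0080100038800248002be01010001380801000358001f8002ba010100011808010005c800350002ae01010002800802000578002e8002aa01010002280802000268001b8002a201010000980802000228001500029e010100008008020001c8001700029a01010000600802000108000b000296010100002808020004f8002d80013801010001e80805000448002800023601010001a008050001b80016800216010100005808050001280012800044010100003008050000f8000a80021a010100002008050000b8000c80002401010000100805000048000400000001010000000805000678003980019801010002c808040005a8003480016401010002400804000218001a000080010100007008040001980016800060010100005008040000b8000d80002801010000100804000048000700000801010000000804000578003200025601010002280800000518002e00025201010001f80800000378002400024e010100013008000002e8002080024601010000d00800),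 (20, 0x2de0012e000bc0003e0001d8001150008380030c001b603030003701809000b480038c002ec000f60007500058c00276000bd000c380c0c000d8060240017e000a8000c70004e400126001670004a8005d40031201040002982009000ab0002a800318001030004c80046400136001730004f80410000a0080240007600061000c580048c0028400153000920005c40007c02038000681c09000990005680026c00139000af8004d4002b2030200008810080007d000440001fc00103000898003f40021e030200007010080008e0005300024400127000a880047c0029603020000281008000c28002940010002008001600403000c000035c0017802008002900404000be0001fc000ac02008000b80404000bd0001ac0008c020080008804040003e80028c00174000a00003d00806000540301c000d20008b00057000220000cc02018001080c07000088000b4000a80002a0000700806000020301c0001200021000220000780000c02018000000c07000a30004b800262001490009680806000b60301800196000e3000790003800027a02018002c00c060002b80020400128000700009a808060002e03018000a6000790004d0001d8001fa02018000a80c06), (10, 0x4b800356000e20000c00198060000069400352001a20000c001c8060100069c001e2000ee01004001bc02000006440010a000ab0006380037c001b8000c4000540002080031405028001b8140a000bc0006600033e03000003a80001000bb00065800342030000039000010006f8003c4001ec000ea000ce80806000c803018001ba000ef0007c0003b00033602018003180c06000638003500032401010002b00800000628003600032801010002a80800)] = true := by decide +kernel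

end Cfsg.Agent.Spor.Cos.He
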