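import Cfsg.Agent.Lib.Spor.Cos.He.Sa3Data
import Cfsg.Agent.Lib.Spor.Cos.He.ActAData

/-! Data and checks for a presented sporadic group. -/

set_option autoImplicit false
set_option maxRecDepth 100000
set_option maxHeartbeats 4000000

namespace Cfsg.Agent.Spor.Cos.He

theorem sa3_ents0 : allBlock (sa3.chkEnt actA sa3W 1) 1360 512 0 = true := by decide +kernel

theorem sa3_ents1 : allBlock (sa3.chkEnt actA sa3W 1) 1360 512 1 = true := by decide +kernel

theorem sa3_ents2 : allBlock (sa3.chkEnt actA sa3W 1) 1360 512 2 = true := by decide +kernel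


end Cfsg.Agent.Spor.Cos.He
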