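import Cfsg.Agent.Lib.Spor.Cos.He.Sa0Data
import Cfsg.Agent.Lib.Spor.Cos.He.Sa1Data
import Cfsg.Agent.Lib.Spor.Cos.He.Sa2Data
import Cfsg.Agent.Lib.Spor.Cos.He.Sa3Data

/-! Data and checks for a presented sporadic group. -/

set_option autoImplicit false
set_option maxRecDepth 100000
set_option maxHeartbeats 4000000

namespace Cfsg.Agent.Spor.Cos.He

/-- The suborbits. -/
def saList : List (Orb × ℕ) := [(sa0, 37), (sa1, 217), (sa2, 8), (sa3, 1)]

end Cfsg.Agent.Spor.Cos.He
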