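import Cfsg.Agent.Lib.Spor.Cos.He.Order
import Cfsg.Agent.Lib.Spor.Cos.He.ActCData
import Cfsg.Agent.Lib.Spor.Cos.He.Hh0
import Cfsg.Agent.Lib.Spor.Cos.He.Hh1
import Cfsg.Agent.Lib.Spor.Cos.He.Hh2
import Cfsg.Agent.Lib.Spor.Cos.He.Hh3
import Cfsg.Agent.Lib.Spor.Cos.He.Hh4
import Cfsg.Agent.Lib.Spor.Cos.He.Nn0
import Cfsg.Agent.Lib.Spor.Cos.He.Nn1
import Cfsg.Agent.Lib.Spor.Cos.He.Nn2
import Cfsg.Agent.Lib.Spor.Cos.He.Nn3
import Cfsg.Agent.Lib.Spor.Cos.He.Nn4
import Cfsg.Agent.Lib.Classical.SympGen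

/-!
The symplectic group of index 2 in the point stabiliser of the Held group.
-/

set_option autoImplicit false
set_option maxRecDepth 100000
set_option maxHeartbeats 1000000

open Cfsg.Spor Matrix

namespace Cfsg.Agent.Spor.Cos.He

/-- The field with four elements. -/
inductive F4 where
  | o | e | w | v
  deriving DecidableEq

namespace F4

instance : Fintype F4 where
  elems := {o, e, w, v}
  complete x := by cases x <;> decide

/-- The element with a given code. -/
def toF : ℕ → F4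
  | 0 => o | 1 => e | 2 => w | _ => v

/-- The code of an element. -/
def code : F4 → ℕ
  | o => 0 | e => 1 | w => 2 | v => 3

instance : Zero F4 := ⟨o⟩
instance : One F4 := ⟨e⟩
instance : Neg F4 := ⟨fun x => x⟩
instance : Add F4 := ⟨fun x y => toF (x.code ^^^ y.code)⟩
instance : Mul F4 := ⟨fun x y => toF (([[0, 0, 0, 0], [0, 1, 2, 3], [0, 2, 3, 1], [0, 3, 1, 2]].getD x.code []).getD y.code 0)⟩
instance : Inv F4 := ⟨fun x => toF ([0, 1, 3, 2].getD x.code 0)⟩

instance : Field F4 :=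
  Field.ofMinimalAxioms F4 (by decide) (by decide) (by decide) (by decide) (by decide) (by decide) (by decide)
    (by decide) (by decide) ⟨o, e, by decide⟩

end F4

/-- The generated subgroup. -/
noncomputable abbrev HL : Subgroup Spor.He := val g invW

/-- The generators inside it. -/
noncomputable def hL (s : ℕ) : HL := if hs : s < 7 then ⟨ev g (invW.getD s []), mem_val (by interval_cases s <;> decide)⟩ else 1

theorem hL_coe {s : ℕ} (hs : s < 7) : (hL s : Spor.He) = ev g (invW.getD s []) := by simp [hL, hs]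

theorem hL_gen : Subgroup.closure {x | ∃ s, s < 7 ∧ hL s = x} = ⊤ := by
  rw [← (Subgroup.map_injective HL.subtype_injective).eq_iff, ← MonoidHom.range_eq_map, HL.range_subtype,
    MonoidHom.map_closure]
  show _ = Subgroup.closure {y | ∃ w ∈ invW, ev g w = y}
  congr 1
  ext y
  simp only [Set.mem_image, Set.mem_setOf_eq, Subgroup.coe_subtype]
  constructor
  · rintro ⟨x, ⟨i, hi, rfl⟩, rfl⟩
    exact ⟨_, (show invW.getD i [] ∈ invW by interval_cases i <;> decide), (hL_coe hi).symm⟩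
  · rintro ⟨w, hw, rfl⟩
    obtain ⟨i, hi, rfl⟩ := List.getElem_of_mem hw
    have hi' : i < 7 := hi
    refine ⟨_, ⟨i, hi', rfl⟩, ?_⟩
    rw [hL_coe hi', List.getD_eq_getElem]

/-- The block of a point. -/
noncomputable def blkPt (p : Fin actA.N) : Option (Fin actC.N) :=
  if h : 0 < blk.at p ∧ blk.at p - 1 < 85 then some ⟨blk.at p - 1, h.2⟩ else none

/-- The check that a generator respects the blocks. -/
noncomputable def chkBlk (p : ℕ) : Bool :=
  (List.range 7).all fun s => force (blk.at p) fun b => force (blk.at (actA.go (invW.getD s []) p)) fun b' =>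
    bif Nat.beq b 0 then Nat.beq b' 0 else Nat.blt (b - 1) 85 && Nat.beq b' (actC.im (b - 1) s + 1)

theorem blk_chk : ∀ p < 2058, chkBlk p = true := by
  refine of_blocks (size := 256) (b := 9) (by decide) (by decide) fun j hj => ?_
  interval_cases j <;> decide +kernel

theorem actC_inv : ∀ p < 85, actC.chkInv p = true := by
  refine of_blocks (size := 85) (b := 1) (by decide) (by decide) fun j hj => ?_
  interval_cases j; decide +kernel

theorem blk_reps : ∀ b : ℕ, b < 85 → (decide (blkReps.getD b 0 < 2058) && Nat.beq (blk.at (blkReps.getD b 0)) (b + 1)) = true := by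
  refine of_blocks (size := 85) (b := 1) (by decide) (by decide) fun j hj => ?_
  interval_cases j; decide +kernel

theorem blkPt_gen (s : ℕ) (p : Fin actA.N) :
    blkPt (piA (hL s : Spor.He) p) = (blkPt p).map (actC.perm s) := by
  by_cases hs : s < 7
  · have hl : Act.lettersOk actA.n invW = true := by decide +kernel
    have hw : invW.getD s [] ∈ invW := by interval_cases s <;> decide
    have e : (piA (hL s : Spor.He) p : ℕ) = actA.go (invW.getD s []) p := by
      rw [hL_coe hs]; exact homA.apply_ev _ (Act.lt_of_lettersOk hl hw) p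
    have h := List.all_eq_true.1 (blk_chk p p.2) s (List.mem_range.2 hs)
    simp only [force_eq] at h
    generalize hb : blk.at (p : ℕ) = b at h
    rcases b with _ | b
    · simp only [show Nat.beq 0 0 = true from rfl, Bool.cond_true] at h
      have h' : blk.at (piA (hL s : Spor.He) p : ℕ) = 0 := e ▸ Nat.eq_of_beq_eq_true h
      simp [blkPt, hb, h']
    · simp only [show Nat.beq (b + 1) 0 = false from rfl, Bool.cond_false, Bool.and_eq_true,
        Nat.add_sub_cancel] at h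
      have hb85 : b < 85 := Nat.le_of_ble_eq_true h.1
      have h' : blk.at (piA (hL s : Spor.He) p : ℕ) = actC.im b s + 1 := e ▸ Nat.eq_of_beq_eq_true h.2
      have h2 := actC.perm_apply actC_inv (show s < actC.n from hs) ⟨b, hb85⟩
      have him : actC.im b s < 85 := h2 ▸ (actC.perm s ⟨b, hb85⟩).isLt
      simp only [blkPt, hb, h', Nat.add_sub_cancel, Nat.succ_pos, true_and, dif_pos hb85, dif_pos him, Option.map_some]
      exact congrArg some (Fin.ext h2.symm)
  · rw [show hL s = 1 by simp [hL, hs], OneMemClass.coe_one, map_one, actC.perm_out s (show actC.n ≤ s from Nat.not_lt.1 hs)]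
    simp

theorem blkPt_surj (b : Fin actC.N) : ∃ p, blkPt p = some b := by
  have h := blk_reps b b.2
  simp only [Bool.and_eq_true, decide_eq_true_eq] at h
  refine ⟨⟨_, h.1⟩, ?_⟩
  have e : blk.at (blkReps.getD b 0) = (b : ℕ) + 1 := Nat.eq_of_beq_eq_true h.2
  have hb : (b : ℕ) < 85 := b.2
  have hlt : blk.at (blkReps.getD b 0) - 1 < 85 := by omega
  unfold blkPt
  rw [dif_pos ⟨by show 0 < blk.at (blkReps.getD b 0); omega, hlt⟩]
  exact congrArg some (Fin.ext (by show blk.at (blkReps.getD b 0) - 1 = b; omega))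

theorem exists_psi : ∃ ψ : HL →* Equiv.Perm (Fin actC.N), ∀ s, ψ (hL s) = actC.perm s := by
  have ex : ∀ y : HL, ∃ σ : Equiv.Perm (Fin actC.N), ∀ p, blkPt (piA (y : Spor.He) p) = (blkPt p).map σ := by
    intro y
    have hy : y ∈ Subgroup.closure {x | ∃ s, s < 7 ∧ hL s = x} := hL_gen ▸ Subgroup.mem_top y
    induction hy using Subgroup.closure_induction with
    | mem x hx => obtain ⟨s, -, rfl⟩ := hx; exact ⟨_, blkPt_gen s⟩
    | one => exact ⟨1, fun p => by simp⟩
    | mul a b _ _ ha hb =>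
      obtain ⟨σ, hσ⟩ := ha
      obtain ⟨τ, hτ⟩ := hb
      exact ⟨σ * τ, fun p => by
        rw [Subgroup.coe_mul, map_mul, Equiv.Perm.mul_apply, hσ, hτ, Option.map_map]; rfl⟩
    | inv a _ ha =>
      obtain ⟨σ, hσ⟩ := ha
      refine ⟨σ⁻¹, fun p => ?_⟩
      have := hσ (piA (a : Spor.He)⁻¹ p)
      rw [← Equiv.Perm.mul_apply, ← map_mul, mul_inv_cancel, map_one, Equiv.Perm.one_apply] at this
      rw [this, Option.map_map, Subgroup.coe_inv]
      have : ⇑σ⁻¹ ∘ ⇑σ = id := funext fun x => σ.symm_apply_apply x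
      rw [this, Option.map_id_fun, id]
  choose σ hσ using ex
  have uniq : ∀ (y : HL) (τ : Equiv.Perm (Fin actC.N)), (∀ p, blkPt (piA (y : Spor.He) p) = (blkPt p).map τ) → σ y = τ := by
    intro y τ hτ
    refine Equiv.ext fun b => ?_
    obtain ⟨p, hp⟩ := blkPt_surj b
    have := (hσ y p).symm.trans (hτ p)
    rw [hp] at this
    exact Option.some.inj this
  refine ⟨{ toFun := σ
            map_one' := uniq 1 1 fun p => by simp
            map_mul' := fun a b => uniq _ _ fun p => by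
              rw [Subgroup.coe_mul, map_mul, Equiv.Perm.mul_apply, hσ, hσ, Option.map_map]; rfl }, fun s => ?_⟩
  exact uniq _ _ (blkPt_gen s)

/-- The action on the 85 blocks. -/
noncomputable def psi : HL →* Equiv.Perm (Fin actC.N) := exists_psi.choose

theorem homC : actC.Hom hL psi := ⟨actC_inv, exists_psi.choose_spec⟩

theorem levH : LevR hL actC psi hh0W 1958400 [0, 1, 2, 3, 4] := by
  have := finite
  have h5 : LevR hL actC psi [] 1 [] := LevR.nil
  have h4 : LevR hL actC psi hh4W 6 [4] :=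
    LevR.step homC h5 hh4_ok (by decide +kernel) (by decide +kernel) (by decide +kernel)
  have h3 : LevR hL actC psi hh3W 72 [3, 4] :=
    LevR.step homC h4 hh3_ok (by decide +kernel) (by decide +kernel) (by decide +kernel)
  have h2 : LevR hL actC psi hh2W 1152 [2, 3, 4] :=
    LevR.step homC h3 hh2_ok (by decide +kernel) (by decide +kernel) (by decide +kernel)
  have h1 : LevR hL actC psi hh1W 23040 [1, 2, 3, 4] :=
    LevR.step homC h2 hh1_ok (by decide +kernel) (by decide +kernel) (by decide +kernel)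
  have h0 : LevR hL actC psi hh0W 1958400 [0, 1, 2, 3, 4] :=
    LevR.step homC h1 hh0_ok (by decide +kernel) (by decide +kernel) (by decide +kernel)
  exact h0

theorem levN : LevR hL actC psi nn0W 979200 [0, 1, 2, 3, 4] := by
  have := finite
  have h5 : LevR hL actC psi [] 1 [] := LevR.nil
  have h4 : LevR hL actC psi nn4W 3 [4] :=
    LevR.step homC h5 nn4_ok (by decide +kernel) (by decide +kernel) (by decide +kernel)
  have h3 : LevR hL actC psi nn3W 36 [3, 4] :=
    LevR.step homC h4 nn3_ok (by decide +kernel) (by decide +kernel) (by decide +kernel)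
  have h2 : LevR hL actC psi nn2W 576 [2, 3, 4] :=
    LevR.step homC h3 nn2_ok (by decide +kernel) (by decide +kernel) (by decide +kernel)
  have h1 : LevR hL actC psi nn1W 11520 [1, 2, 3, 4] :=
    LevR.step homC h2 nn1_ok (by decide +kernel) (by decide +kernel) (by decide +kernel)
  have h0 : LevR hL actC psi nn0W 979200 [0, 1, 2, 3, 4] :=
    LevR.step homC h1 nn0_ok (by decide +kernel) (by decide +kernel) (by decide +kernel)
  exact h0

theorem invW_le : HL ≤ val g lv1W := by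
  have hY : ev g ((List.replicate 7 [1, 2, 3, 4]).flatten) ∈ val g lv1W := mem_val (by decide)
  refine (Subgroup.closure_le _).2 ?_
  rintro _ ⟨w, hw, rfl⟩
  simp only [invW, List.mem_cons, List.not_mem_nil, or_false] at hw
  rcases hw with rfl | rfl | rfl | rfl | rfl | rfl | rfl
  iterate 6 exact mem_val (by decide)
  have h0 : ev g [0] ∈ val g lv1W := mem_val (by decide)
  have key := mul_mem (mul_mem hY h0) (inv_mem hY)
  rw [← ev_reverse (fun s _ => g_sq s) (n := 7) _ (by decide), ← ev_append, ← ev_append] at key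
  exact key

theorem card_lv1 : Nat.card (val g lv1W) = 1958400 := by
  rw [stabA]
  exact card_stab trA card_eq

theorem HL_eq : HL = val g lv1W := by
  have := finite
  refine SetLike.coe_injective (Set.eq_of_subset_of_ncard_le invW_le ?_)
  rw [← Nat.card_coe_set_eq, ← Nat.card_coe_set_eq]
  exact (le_of_eq card_lv1).trans (levH.le.trans (Subgroup.card_le_card_group _))

theorem psi_injective : Function.Injective psi := by
  have := finite
  have hle : Nat.card HL ≤ 1958400 := by rw [HL_eq]; exact card_lv1.le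
  refine (injective_iff_map_eq_one psi).2 fun y hy => ?_
  refine levH.fix ((Subgroup.card_le_card_group _).trans hle) y ?_ fun q _ => by rw [hy]; rfl
  have hc : val hL hh0W = ⊤ := by
    refine top_le_iff.1 (hL_gen ▸ (Subgroup.closure_le _).2 ?_)
    rintro _ ⟨s, hs, rfl⟩
    have : ev hL [s] ∈ val hL hh0W := mem_val (by interval_cases s <;> decide)
    simpa [ev] using this
  rw [hc]; exact Subgroup.mem_top y

/-- Vectors of the symplectic space by their codes. -/
def vec (c : ℕ) : Fin 2 ⊕ Fin 2 → F4 := fun i => F4.toF (c / 4 ^ (Sum.elim (fun k : Fin 2 => (k : ℕ)) (fun k => 2 + (k : ℕ)) i) % 4)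

/-- The code of a vector. -/
def vcode (v : Fin 2 ⊕ Fin 2 → F4) : ℕ :=
  (v (.inl 0)).code + 4 * (v (.inl 1)).code + 16 * (v (.inr 0)).code + 64 * (v (.inr 1)).code

/-- The point of a vector. -/
def ptOf (v : Fin 2 ⊕ Fin 2 → F4) : Fin 85 := Fin.ofNat 85 ([0, 2, 2, 2, 5, 50, 57, 72, 5, 72, 50, 57, 5, 57, 72, 50, 1, 41, 67, 66, 3, 62, 38, 63, 8, 58, 56, 34, 16, 46, 22, 9, 1, 66, 41, 67, 16, 9, 46, 22, 3, 63, 62, 38, 8, 34, 58, 56, 1, 67, 66, 41, 8, 56, 34, 58, 16, 22, 9, 46, 3, 38, 63, 62, 0, 6, 14, 10, 68, 51, 47, 43, 64, 65, 24, 15, 53, 74, 48, 32, 70, 12, 69, 19, 35, 76, 54, 11, 78, 44, 59, 45, 4, 33, 55, 81, 80, 25, 73, 26, 13, 37, 30, 84, 36, 83, 31, 23, 61, 21, 77, 20, 75, 27, 79, 7, 60, 42, 49, 39, 29, 17, 52, 82, 18, 71, 40, 28, 0, 10, 6, 14, 53, 32, 74, 48, 68, 43, 51, 47, 64, 15, 65, 24, 75, 7, 27, 79, 18, 28, 71, 40, 60, 39, 42, 49, 29, 82, 17, 52, 70, 19, 12, 69, 4, 81, 33, 55, 35, 11, 76, 54, 78, 45, 44, 59, 80, 26, 25, 73, 61, 20, 21,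 77, 13, 84, 37, 30, 36, 23, 83, 31, 0, 14, 10, 6, 64, 24, 15, 65, 53, 48, 32, 74, 68, 47, 43, 51, 80, 73, 26, 25, 36, 31, 23, 83, 61, 77, 20, 21, 13, 30, 84, 37, 75, 79, 7, 27, 29, 52, 82, 17, 18, 40, 28, 71, 60, 49, 39, 42, 70, 69, 19, 12, 78, 59, 45, 44, 4, 55, 81, 33, 35, 54, 11, 76].getD (vcode v) 0)

/-- A vector of a point. -/
def vecOf (b : Fin 85) : Fin 2 ⊕ Fin 2 → F4 := vec ([64, 16, 1, 20, 164, 4, 65, 145, 52, 37, 129, 169, 81, 100, 193, 141, 36, 121, 148, 161, 181, 109, 57, 189, 197, 97, 177, 113, 149, 228, 221, 213, 133, 93, 45, 84, 212, 101, 61, 153, 233, 17, 117, 137, 89, 173, 29, 205, 201, 237, 5, 69, 229, 132, 253, 249, 53, 13, 25, 245, 116, 180, 21, 41, 196, 73, 33, 49, 68, 241, 80, 125, 9, 209, 77, 144, 85, 217, 244, 225, 208, 165, 157, 105, 185].getD b 0)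

theorem vecOf_ptOf : ∀ v : Fin 2 ⊕ Fin 2 → F4, v ≠ 0 → ∃ c : F4, c ≠ 0 ∧ vecOf (ptOf v) = c • v := by
  decide +kernel

theorem ptOf_smul : ∀ (v : Fin 2 ⊕ Fin 2 → F4) (c : F4), c ≠ 0 → ptOf (c • v) = ptOf v := by
  decide +kernel

theorem ptOf_vecOf : ∀ b : Fin 85, ptOf (vecOf b) = b ∧ vecOf b ≠ 0 := by
  decide +kernel

/-- The matrices of the symplectic group. -/
abbrev Sp4 : Type := Matrix.symplecticGroup (Fin 2) F4

/-- The image of a point under a matrix. -/
def ptMove (M : Sp4) (b : Fin 85) : Fin 85 := ptOf ((M : Matrix (Fin 2 ⊕ Fin 2) (Fin 2 ⊕ Fin 2) F4) *ᵥ vecOf b)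

theorem mulVec_ne_zero (M : Sp4) {v : Fin 2 ⊕ Fin 2 → F4} (hv : v ≠ 0) :
    (M : Matrix (Fin 2 ⊕ Fin 2) (Fin 2 ⊕ Fin 2) F4) *ᵥ v ≠ 0 := by
  intro h
  have h1 : ((M⁻¹ * M : Sp4) : Matrix (Fin 2 ⊕ Fin 2) (Fin 2 ⊕ Fin 2) F4) *ᵥ v = 0 := by
    rw [Submonoid.coe_mul, ← Matrix.mulVec_mulVec, h, Matrix.mulVec_zero]
  rw [inv_mul_cancel, Submonoid.coe_one, Matrix.one_mulVec] at h1
  exact hv h1

theorem ptMove_mul (M M' : Sp4) (b : Fin 85) : ptMove (M * M') b = ptMove M (ptMove M' b) := by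
  simp only [ptMove, Submonoid.coe_mul, ← Matrix.mulVec_mulVec]
  obtain ⟨c, hc, e⟩ := vecOf_ptOf _ (mulVec_ne_zero M' (ptOf_vecOf b).2)
  rw [e, Matrix.mulVec_smul, ptOf_smul _ _ hc]

theorem ptMove_one (b : Fin 85) : ptMove 1 b = b := by
  simp only [ptMove, Submonoid.coe_one, Matrix.one_mulVec]
  exact (ptOf_vecOf b).1

/-- The action on the points. -/
def spHom : Sp4 →* Equiv.Perm (Fin actC.N) where
  toFun M :=
    { toFun := ptMove M
      invFun := ptMove M⁻¹
      left_inv := fun b => (ptMove_mul M⁻¹ M b).symm.trans (by rw [inv_mul_cancel]; exact ptMove_one b)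
      right_inv := fun b => (ptMove_mul M M⁻¹ b).symm.trans (by rw [mul_inv_cancel]; exact ptMove_one b) }
  map_one' := Equiv.ext ptMove_one
  map_mul' M M' := Equiv.ext (ptMove_mul M M')

/-- A matrix from rows of codes. -/
def mat (L : List (List ℕ)) : Matrix (Fin 2 ⊕ Fin 2) (Fin 2 ⊕ Fin 2) F4 := Matrix.of fun i j =>
  F4.toF ((L.getD (Sum.elim (fun k : Fin 2 => (k : ℕ)) (fun k => 2 + (k : ℕ)) i) []).getD
    (Sum.elim (fun k : Fin 2 => (k : ℕ)) (fun k => 2 + (k : ℕ)) j) 0)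

/-- The matrices of the words. -/
def matList : List (List (List ℕ)) := [[[0, 3, 0, 0], [2, 0, 0, 0], [0, 0, 0, 2], [0, 0, 3, 0]], [[0, 0, 0, 3], [0, 0, 3, 0], [0, 2, 0, 0], [2, 0, 0, 0]], [[0, 3, 0, 0], [2, 0, 0, 0], [1, 0, 0, 2], [0, 2, 3, 0]], [[0, 1, 1, 0], [3, 0, 0, 3], [2, 0, 0, 3], [0, 3, 1, 0]], [[1, 2, 1, 0], [1, 1, 0, 3], [2, 0, 1, 1], [0, 3, 2, 1]], [[0, 2, 0, 0], [3, 0, 0, 0], [0, 0, 0, 3], [0, 0, 2, 0]], [[0, 3, 0, 0], [2, 0, 0, 0], [0, 0, 0, 2], [0, 0, 3, 0]], [[3, 0, 0, 1], [0, 3, 1, 0], [0, 3, 3, 0], [3, 0, 0, 3]], [[0, 3, 0, 0], [2, 0, 0, 0], [1, 0, 0, 2], [0, 2, 3, 0]], [[0, 1, 1, 0], [3, 0, 0, 3], [2, 0, 0, 3], [0, 3, 1, 0]], [[1, 2, 1, 0], [1, 1, 0, 3], [2, 0, 1, 1], [0, 3, 2, 1]], [[0, 2, 0, 0], [3, 0, 0, 0], [0, 0, 0, 3], [0, 0, 2, 0]], [[1, 0, 0, 0], [0, 1, 0, 0], [0, 3, 1, 0], [3, 0, 0, 1]], [[2, 0, 0, 0], [0, 3, 0, 0], [0, 0, 3, 0], [0, 0, 0, 2]], [[1, 0, 0, 0], [0, 1, 0, 0], [0, 1, 1, 0], [1, 0, 0, 1]], [[1, 0, 0, 0], [0,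 1, 0, 0], [1, 0, 1, 0], [0, 2, 0, 1]], [[2, 0, 0, 0], [0, 2, 0, 0], [0, 1, 3, 0], [1, 0, 0, 3]], [[3, 2, 1, 0], [0, 1, 0, 0], [3, 3, 3, 0], [3, 1, 2, 1]], [[2, 0, 0, 0], [0, 2, 0, 0], [0, 0, 3, 0], [0, 0, 0, 3]], [[1, 0, 0, 0], [0, 2, 0, 0], [0, 0, 1, 0], [0, 2, 0, 3]]]

theorem matList_mem : ∀ i : Fin 20, mat (matList.getD i []) * Matrix.J (Fin 2) F4 * (mat (matList.getD i []))ᵀ =
    Matrix.J (Fin 2) F4 := by decide +kernel

/-- The matrices as elements. -/
def spGen (i : Fin 20) : Sp4 := ⟨mat (matList.getD i []), SymplecticGroup.mem_iff.2 (matList_mem i)⟩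

/-- The comparison. -/
noncomputable def chkMat (i : Fin 20) : Bool :=
  (List.finRange 85).all fun b => Nat.beq (actC.go (sympW.getD i []) (b : ℕ)) (ptMove (spGen i) b : ℕ)

theorem matList_agree : ∀ i : Fin 20, chkMat i = true := by
  intro i
  fin_cases i <;> decide +kernel

theorem card_sp4 : Nat.card Sp4 = 979200 := by
  rw [Classical.natCard_symplecticGroup, Nat.card_eq_fintype_card]
  rfl

theorem exists_symplectic : ∃ (N : Subgroup (val g lv1W)), N.Normal ∧ N.index = 2 ∧ Nonempty (N ≃* Sp4) := by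
  have := finite
  set NN : Subgroup HL := val hL nn0W
  have hN : 979200 ≤ Nat.card NN := levN.le
  have himg : NN.map psi ≤ spHom.range := by
    show (Subgroup.closure {y | ∃ w ∈ nn0W, ev hL w = y}).map psi ≤ _
    rw [MonoidHom.map_closure]
    refine (Subgroup.closure_le _).2 ?_
    rintro _ ⟨_, ⟨w, hw, rfl⟩, rfl⟩
    obtain ⟨i, hi, rfl⟩ := List.getElem_of_mem hw
    have hi' : i < 20 := hi
    refine ⟨spGen ⟨i, hi'⟩, Equiv.ext fun b => Fin.ext ?_⟩
    have hl : Act.lettersOk actC.n nn0W = true := by decide +kernel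
    rw [homC.apply_ev _ (Act.lt_of_lettersOk hl (List.getElem_mem hi))]
    have h := List.all_eq_true.1 (matList_agree ⟨i, hi'⟩) b (List.mem_finRange b)
    have e : sympW.getD i [] = nn0W[i] := by
      have hs : sympW = nn0W := by decide +kernel
      rw [hs]
      exact List.getD_eq_getElem _ _ hi
    simp only [e] at h
    exact (Nat.eq_of_beq_eq_true h).symm
  have hNc : Nat.card NN = Nat.card (NN.map psi) :=
    Nat.card_congr (Subgroup.equivMapOfInjective _ _ psi_injective).toEquiv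
  have hle : Nat.card spHom.range ≤ Nat.card Sp4 :=
    Nat.card_le_card_of_surjective _ spHom.rangeRestrict_surjective
  have hsub : Nat.card (NN.map psi) ≤ Nat.card spHom.range := Subgroup.card_le_of_le himg
  rw [card_sp4] at hle
  have heq : NN.map psi = spHom.range := by
    refine SetLike.coe_injective (Set.eq_of_subset_of_ncard_le himg ?_)
    rw [← Nat.card_coe_set_eq, ← Nat.card_coe_set_eq]
    exact hle.trans (hN.trans hNc.le)
  have hinj : Function.Injective spHom := by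
    have hb : Function.Bijective spHom.rangeRestrict :=
      (Nat.bijective_iff_surjective_and_card _).2 ⟨spHom.rangeRestrict_surjective, by rw [card_sp4]; omega⟩
    exact fun a b h => hb.1 (Subtype.ext h)
  have e1 : NN ≃* Sp4 := ((Subgroup.equivMapOfInjective _ _ psi_injective).trans
    (MulEquiv.subgroupCongr heq)).trans (MonoidHom.ofInjective hinj).symm
  let T : HL ≃* val g lv1W := MulEquiv.subgroupCongr HL_eq
  have hcN : Nat.card (NN.map (T : HL →* val g lv1W)) = 979200 := by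
    rw [← Nat.card_congr (T.subgroupMap NN).toEquiv, Nat.card_congr e1.toEquiv, card_sp4]
  have hidx : (NN.map (T : HL →* val g lv1W)).index = 2 := by
    have h := (NN.map (T : HL →* val g lv1W)).index_mul_card
    rw [hcN, card_lv1] at h
    omega
  exact ⟨_, Subgroup.normal_of_index_eq_two hidx, hidx, ⟨(T.subgroupMap NN).symm.trans e1⟩⟩

end Cfsg.Agent.Spor.Cos.He
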