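import Cfsg.Agent.Lib.Grp.SchurM.TailTable
import Cfsg.Agent.Lib.Spor.Cos.He.Order

/-! A Sylow 17-subgroup with equations killing the tails. -/

set_option autoImplicit false
set_option maxRecDepth 100000
set_option maxHeartbeats 8000000

open Cfsg.Agent.Spor.Cos Cfsg.Agent.Grp.SchurM.Tails

namespace Cfsg.Agent.Spor.Cos.He.Mult

/-- Elements of the Sylow 17-subgroup, as words in the presentation. -/
def els17 : List (List ℕ) :=
   [[0, 0, 0, 0, 0],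
    [0, 0, 0, 0, 0, 0, 0, 0, 0, 0, 0, 0, 0, 0, 0],
    [0, 0, 0, 0, 0, 0, 0],
    [0, 0],
    [0, 0, 0, 0, 0, 0, 0, 0, 0, 0, 0, 0, 0, 0],
    [0, 0, 0, 0],
    [0, 0, 0, 0, 0, 0, 0, 0, 0, 0, 0, 0, 0, 0, 0, 0],
    [0, 0, 0, 0, 0, 0, 0, 0, 0, 0, 0],
    [0, 0, 0, 0, 0, 0, 0, 0, 0, 0, 0, 0],
    [0, 0, 0, 0, 0, 0],
    [],
    [0, 0, 0, 0, 0, 0, 0, 0, 0, 0, 0, 0, 0],
    [0, 0, 0, 0, 0, 0, 0, 0, 0, 0],
    [0, 0, 0],
    [0],
    [0, 0, 0, 0, 0, 0, 0, 0, 0],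
    [0, 0, 0, 0, 0, 0, 0, 0]]

/-- Presentation of the Sylow 17-subgroup. -/
def pc17 : PC where
  p := 17
  n := 1
  rhs := [[]]
  defs := []

/-- Conjugation data. -/
def conj17 : List Conj :=
   [(0, [0], [0, 0, 0, 0, 0, 0, 0, 0, 0, 0, 0, 0, 0, 0, 0, 0])]

/-- Equations between tails. -/
def cert17 : Cert where
  eqns := [.fus [0] [0, 0, 0, 0, 0, 0, 0, 0, 0, 0, 0, 0, 0, 0, 0, 0, 0] []]
  free := 1
  combo := [[0, 0, 0, 0, 0, 0, 0, 0, 0]]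

/-- The certificate. -/
def tab17 : TableCert where
  P := pc17
  ews := [[6, 3, 2, 3, 6, 0, 1, 2, 3, 2, 3, 1, 2, 3, 1, 2, 3, 1, 2, 3, 5, 3, 6, 2, 0]]
  gws := [[5, 1, 2, 3, 6, 3, 4, 2, 3, 2, 3, 1, 6, 2, 3, 5, 6, 3, 1, 2, 3, 5, 1, 2, 3, 5, 5, 2, 0, 3, 5, 4]]
  C := conj17
  K := cert17
  els := els17

theorem tab17_rel : tab17.chkRel actA [0, 1, 2, 3, 5, 8, 1435] = true := by decide +kernel

theorem tab17_card : tab17.chkCard actA [0, 1, 2, 3, 5, 8, 1435] = true := by decide +kernel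

theorem tab17_tails : tab17.K.check tab17.P tab17.C = true := by decide +kernel

theorem sylow17 : Nonempty (SylowCert Spor.He 17) :=
  have := finite
  TableCert.sylowCert homA (by decide +kernel) det card_eq rfl (by decide) tab17_rel tab17_card tab17_tails
    (le_of_eq rfl) (by decide +kernel)

end Cfsg.Agent.Spor.Cos.He.Mult
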