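import Cfsg.Agent.Lib.Grp.SchurM.TailTable
import Cfsg.Agent.Lib.Spor.Cos.He.Order

/-! A Sylow 2-subgroup with equations killing the tails. -/

set_option autoImplicit false
set_option maxRecDepth 100000
set_option maxHeartbeats 8000000

open Cfsg.Agent.Spor.Cos Cfsg.Agent.Grp.SchurM.Tails

namespace Cfsg.Agent.Spor.Cos.He.Mult

/-- Elements of the Sylow 2-subgroup, as words in the presentation. -/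
def els2 : List (List ℕ) :=
   [[1, 6, 7, 9],
    [0, 1, 2, 3, 5, 7, 8],
    [0, 1, 2, 3, 5, 6, 7, 8],
    [1, 7, 9],
    [3, 4, 5, 8, 9],
    [0, 2, 6, 8, 9],
    [0, 1, 2, 5, 7, 8],
    [1, 3, 6, 7, 8],
    [4, 5],
    [0, 2, 3, 6, 9],
    [0, 2, 8, 9],
    [3, 4, 5, 6, 8, 9],
    [4, 5, 6],
    [0, 2, 3, 9],
    [1, 3, 7, 8],
    [0, 1, 2, 5, 6, 7, 8],
    [2, 3, 4, 7, 9],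
    [0, 4, 5, 6, 8],
    [0, 1, 3, 7],
    [1, 2, 4, 5, 6, 9],
    [0, 3, 4, 5, 6, 9],
    [2, 4, 7],
    [0, 1, 3, 6, 7],
    [1, 2, 4, 5, 9],
    [0, 3, 4, 5, 9],
    [2, 4, 6, 7],
    [0, 4, 5, 8],
    [2, 3, 4, 6, 7, 9],
    [1, 2, 3, 4, 5, 8],
    [0, 1, 6, 7, 8, 9],
    [1, 2, 3, 4, 5, 6, 8],
    [0, 1, 7, 8, 9],
    [1, 2, 4, 7, 9],
    [0, 1, 3, 5, 6, 7, 8, 9],
    [0, 3, 4, 7, 8, 9],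
    [2, 4, 5, 6, 7],
    [0, 1, 3, 5, 7, 8, 9],
    [1, 2, 4, 6, 7, 9],
    [1, 2, 3, 4, 7],
    [0, 1, 5, 6, 7, 8, 9],
    [2, 4, 5, 7],
    [0, 3, 4, 6, 7, 8, 9],
    [2, 3, 4, 5, 7, 8],
    [0, 4, 6, 7, 8],
    [0, 1, 5, 7, 8, 9],
    [1, 2, 3, 4, 6, 7],
    [0, 4, 7, 8],
    [2, 3, 4, 5, 6, 7, 8],
    [2, 3, 4, 5, 9],
    [0, 4, 6, 9],
    [0, 3, 4, 6, 9],
    [2, 4, 5, 8],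
    [1, 2, 4, 6, 8, 9],
    [0, 1, 3, 5, 9],
    [0, 1, 3, 5, 6, 9],
    [1, 2, 4, 8, 9],
    [1, 2, 3, 4, 8, 9],
    [0, 1, 5, 6],
    [0, 4, 9],
    [2, 3, 4, 5, 6, 9],
    [1, 2, 3, 4, 6, 8, 9],
    [0, 1, 5],
    [0, 3, 4, 9],
    [2, 4, 5, 6, 8],
    [0, 2, 3, 5, 9],
    [4, 6, 7, 8],
    [0, 1, 2, 6, 9],
    [1, 3, 5, 7, 8, 9],
    [0, 2, 5],
    [3, 4, 6, 7, 8, 9],
    [0, 1, 2, 3, 6, 8, 9],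
    [1, 5, 7, 8, 9],
    [4, 7, 8],
    [0, 2, 3, 5, 6, 9],
    [3, 4, 7, 8, 9],
    [0, 2, 5, 6],
    [1, 3, 5, 6, 7, 8, 9],
    [0, 1, 2, 9],
    [1, 5, 6, 7, 8, 9],
    [0, 1, 2, 3, 8, 9],
    [0, 1, 3, 4, 5, 7, 8, 9],
    [1, 2, 6, 8],
    [0, 1, 3, 4, 5, 6, 7, 8, 9],
    [1, 2, 8],
    [0, 1, 4, 5, 6, 7, 9],
    [1, 2, 3],
    [0, 1, 4, 5, 7, 9],
    [1, 2, 3, 6],
    [2, 5, 6, 8, 9],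
    [0, 3, 7, 8, 9],
    [0, 3, 6, 7, 8, 9],
    [2, 5, 8, 9],
    [0, 7],
    [2, 3, 5, 6, 8],
    [0, 6, 7],
    [2, 3, 5, 8],
    [0, 1, 3, 7, 8],
    [1, 2, 4, 5, 6, 8],
    [1, 2, 3, 4, 5, 6, 9],
    [0, 1, 7, 9],
    [0, 4, 5],
    [2, 3, 4, 6, 7, 8],
    [0, 1, 6, 7, 9],
    [1, 2, 3, 4, 5, 9],
    [1, 2, 4, 5, 8],
    [0, 1, 3, 6, 7, 8],
    [2, 4, 6, 7, 8, 9],
    [0, 3, 4, 5, 8, 9],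
    [2, 4, 7, 8, 9],
    [0, 3, 4, 5, 6, 8, 9],
    [0, 4, 5, 6],
    [2, 3, 4, 7, 8],
    [1, 2, 3, 4, 5],
    [0, 1, 6, 7],
    [1, 2, 4, 5, 6, 8, 9],
    [0, 1, 3, 7, 8, 9],
    [0, 1, 7],
    [1, 2, 3, 4, 5, 6],
    [0, 4, 5, 6, 9],
    [2, 3, 4, 7, 8, 9],
    [2, 4, 7, 8],
    [0, 3, 4, 5, 6, 8],
    [2, 4, 6, 7, 8],
    [0, 3, 4, 5, 8],
    [0, 4, 5, 9],
    [2, 3, 4, 6, 7, 8, 9],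
    [0, 1, 3, 6, 7, 8, 9],
    [1, 2, 4, 5, 8, 9],
    [1, 5, 6, 7, 9],
    [0, 1, 2, 3],
    [4, 7],
    [0, 2, 3, 5, 6, 8],
    [0, 2, 5, 6, 8, 9],
    [3, 4, 7, 9],
    [0, 1, 2, 8],
    [1, 3, 5, 6, 7, 9],
    [0, 2, 5, 8, 9],
    [3, 4, 6, 7, 9],
    [0, 1, 2, 3, 6],
    [1, 5, 7, 9],
    [0, 2, 3, 5, 8],
    [4, 6, 7],
    [0, 1, 2, 6, 8],
    [1, 3, 5, 7, 9],
    [0, 2, 3, 4, 6, 7, 8, 9],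
    [5, 9],
    [0, 2, 4, 6, 7, 8],
    [3, 5],
    [1, 4, 6, 7],
    [0, 1, 2, 3, 4, 5],
    [5, 6, 9],
    [0, 2, 3, 4, 7, 8, 9],
    [0, 1, 2, 3, 4, 5, 6],
    [1, 4, 7],
    [0, 2, 4, 7, 8],
    [3, 5, 6],
    [0, 1, 2, 4, 5, 6, 8, 9],
    [1, 3, 4, 7, 9],
    [0, 1, 2, 4, 5, 8, 9],
    [1, 3, 4, 6, 7, 9],
    [1, 2, 3, 5, 6, 8],
    [0, 1, 4],
    [1, 2, 5, 6, 8, 9],
    [0, 1, 3, 4],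
    [0, 1, 3, 4, 6],
    [1, 2, 5, 8, 9],
    [0, 3, 5, 7, 9],
    [2, 6, 7, 8],
    [2, 3, 6, 7, 9],
    [0, 5, 7, 9],
    [2, 7, 8],
    [0, 3, 5, 6, 7, 9],
    [1, 2, 3, 5, 8],
    [0, 1, 4, 6],
    [2, 3, 7, 9],
    [0, 5, 6, 7, 9],
    [2, 7],
    [0, 3, 5, 6, 7, 8],
    [0, 5, 7, 8],
    [2, 3, 6, 7, 8, 9],
    [2, 3, 7, 8, 9],
    [0, 5, 6, 7, 8],
    [0, 1, 4, 6, 8, 9],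
    [1, 2, 3, 5],
    [1, 2, 3, 5, 6],
    [0, 1, 4, 8, 9],
    [0, 1, 3, 4, 8, 9],
    [1, 2, 5, 6, 9],
    [0, 3, 5, 7, 8],
    [2, 6, 7],
    [1, 2, 5, 9],
    [0, 1, 3, 4, 6, 8, 9],
    [0, 1, 2, 5, 6, 7, 8, 9],
    [1, 3, 7, 8, 9],
    [1, 7],
    [0, 1, 2, 3, 5, 6, 7, 8, 9],
    [0, 2, 8],
    [3, 4, 5, 6, 8],
    [0, 2, 6, 8],
    [3, 4, 5, 8],
    [4, 5, 9],
    [0, 2, 3, 6],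
    [0, 1, 2, 3, 5, 7, 8, 9],
    [1, 6, 7],
    [1, 3, 6, 7, 8, 9],
    [0, 1, 2, 5, 7, 8, 9],
    [0, 2, 3],
    [4, 5, 6, 9],
    [0, 2, 3, 7, 9],
    [4, 5, 6, 7, 9],
    [3, 4, 5, 7, 8, 9],
    [0, 2, 6, 7, 8],
    [1, 3, 6, 8],
    [0, 1, 2, 5, 8, 9],
    [1],
    [0, 1, 2, 3, 5, 6, 8],
    [4, 5, 7, 9],
    [0, 2, 3, 6, 7, 9],
    [0, 1, 2, 5, 6, 8, 9],
    [1, 3, 8],
    [1, 6],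
    [0, 1, 2, 3, 5, 8],
    [3, 4, 5, 6, 7, 8, 9],
    [0, 2, 7, 8],
    [0, 2, 3, 6, 8],
    [4, 5, 8],
    [0, 2, 3, 8],
    [4, 5, 6, 8],
    [0, 1, 2, 3, 5, 7, 9],
    [1, 6, 7, 8, 9],
    [0, 1, 2, 5, 6, 7, 9],
    [1, 3, 7],
    [1, 7, 8, 9],
    [0, 1, 2, 3, 5, 6, 7, 9],
    [0, 1, 2, 5, 7, 9],
    [1, 3, 6, 7],
    [0, 2],
    [3, 4, 5, 6, 9],
    [0, 2, 6],
    [3, 4, 5, 9],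
    [1, 2, 3, 5, 6, 7, 8, 9],
    [0, 1, 4, 7],
    [2, 3],
    [0, 5, 6, 9],
    [2, 3, 6],
    [0, 5, 9],
    [0, 1, 3, 4, 7, 9],
    [1, 2, 5, 6, 7, 8, 9],
    [0, 3, 5],
    [2, 6, 8],
    [1, 2, 3, 5, 7, 8, 9],
    [0, 1, 4, 6, 7],
    [2, 8],
    [0, 3, 5, 6],
    [0, 1, 3, 4, 6, 7, 9],
    [1, 2, 5, 7, 8, 9],
    [0, 1, 3, 5, 6],
    [1, 2, 4, 8],
    [2, 3, 4, 5, 6],
    [0, 4],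
    [0, 1, 3, 5],
    [1, 2, 4, 6, 8],
    [0, 3, 4],
    [2, 4, 5, 6, 8, 9],
    [2, 3, 4, 5],
    [0, 4, 6],
    [2, 4, 5, 8, 9],
    [0, 3, 4, 6],
    [0, 1, 5, 6, 9],
    [1, 2, 3, 4, 8],
    [1, 2, 3, 4, 6, 8],
    [0, 1, 5, 9],
    [0, 1, 3, 4, 5, 6, 9],
    [1, 2, 7],
    [0, 1, 3, 4, 5, 9],
    [1, 2, 6, 7],
    [0, 3, 6, 9],
    [2, 5, 7, 9],
    [1, 2, 3, 6, 7, 8, 9],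
    [0, 1, 4, 5, 8],
    [2, 3, 5, 7, 9],
    [0, 6, 8, 9],
    [0, 8, 9],
    [2, 3, 5, 6, 7, 9],
    [1, 2, 3, 7, 8, 9],
    [0, 1, 4, 5, 6, 8],
    [0, 3, 9],
    [2, 5, 6, 7, 9],
    [0, 1, 5, 7, 8],
    [1, 2, 3, 4, 6, 7, 9],
    [1, 2, 3, 4, 7, 9],
    [0, 1, 5, 6, 7, 8],
    [0, 1, 3, 5, 7, 8],
    [1, 2, 4, 6, 7],
    [2, 4, 5, 7, 9],
    [0, 3, 4, 6, 7, 8],
    [0, 4, 7, 8, 9],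
    [2, 3, 4, 5, 6, 7, 8, 9],
    [2, 3, 4, 5, 7, 8, 9],
    [0, 4, 6, 7, 8, 9],
    [0, 3, 4, 7, 8],
    [2, 4, 5, 6, 7, 9],
    [1, 2, 4, 7],
    [0, 1, 3, 5, 6, 7, 8],
    [5, 6],
    [0, 2, 3, 4, 7, 8],
    [1, 4, 7, 9],
    [0, 1, 2, 3, 4, 5, 6, 9],
    [3, 5, 6, 9],
    [0, 2, 4, 7, 8, 9],
    [5],
    [0, 2, 3, 4, 6, 7, 8],
    [1, 3, 4, 6, 7],
    [0, 1, 2, 4, 5, 8],
    [0, 1, 2, 4, 5, 6, 8],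
    [1, 3, 4, 7],
    [0, 2, 4, 6, 7, 8, 9],
    [3, 5, 9],
    [1, 4, 6, 7, 9],
    [0, 1, 2, 3, 4, 5, 9],
    [1, 2, 3, 4, 7, 8],
    [0, 1, 5, 6, 7],
    [0, 1, 3, 5, 7],
    [1, 2, 4, 6, 7, 8, 9],
    [0, 1, 3, 5, 6, 7],
    [1, 2, 4, 7, 8, 9],
    [0, 3, 4, 7],
    [2, 4, 5, 6, 7, 8],
    [0, 4, 7, 9],
    [2, 3, 4, 5, 6, 7],
    [1, 2, 3, 4, 6, 7, 8],
    [0, 1, 5, 7],
    [0, 3, 4, 6, 7],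
    [2, 4, 5, 7, 8],
    [2, 3, 4, 5, 7],
    [0, 4, 6, 7, 9],
    [0, 2, 3, 5],
    [4, 6, 7, 8, 9],
    [3, 4, 7, 8],
    [0, 2, 5, 6, 9],
    [1, 3, 5, 6, 7, 8],
    [0, 1, 2],
    [0, 1, 2, 6],
    [1, 3, 5, 7, 8],
    [1, 5, 6, 7, 8],
    [0, 1, 2, 3, 8],
    [4, 7, 8, 9],
    [0, 2, 3, 5, 6],
    [0, 2, 5, 9],
    [3, 4, 6, 7, 8],
    [0, 1, 2, 3, 6, 8],
    [1, 5, 7, 8],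
    [1, 3, 4, 5, 7, 8, 9],
    [0, 1, 2, 4, 6, 7, 8],
    [1, 4, 5, 6, 7, 9],
    [0, 1, 2, 3, 4, 7, 8, 9],
    [1, 4, 5, 7, 9],
    [0, 1, 2, 3, 4, 6, 7, 8, 9],
    [3, 7, 8, 9],
    [0, 2, 4, 5, 6, 7, 8, 9],
    [0, 2, 3, 4, 5, 7, 9],
    [6, 7],
    [7],
    [0, 2, 3, 4, 5, 6, 7, 9],
    [1, 3, 4, 5, 6, 7, 8, 9],
    [0, 1, 2, 4, 7, 8],
    [3, 6, 7, 8, 9],
    [0, 2, 4, 5, 7, 8, 9],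
    [2, 3, 7, 8],
    [0, 5, 6, 7, 8, 9],
    [0, 3, 5, 7, 8, 9],
    [2, 6, 7, 9],
    [2, 7, 9],
    [0, 3, 5, 6, 7, 8, 9],
    [1, 2, 5, 6],
    [0, 1, 3, 4, 8],
    [0, 1, 3, 4, 6, 8],
    [1, 2, 5],
    [1, 2, 3, 5, 9],
    [0, 1, 4, 6, 8],
    [0, 1, 4, 8],
    [1, 2, 3, 5, 6, 9],
    [0, 5, 7, 8, 9],
    [2, 3, 6, 7, 8],
    [1, 2, 5, 7],
    [0, 1, 3, 4, 6, 7, 8, 9],
    [0, 1, 3, 4, 7, 8, 9],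
    [1, 2, 5, 6, 7],
    [0, 5, 8, 9],
    [2, 3, 6, 8, 9],
    [2, 3, 8, 9],
    [0, 5, 6, 8, 9],
    [0, 1, 4, 7, 8],
    [1, 2, 3, 5, 6, 7],
    [2, 6, 9],
    [0, 3, 5, 8],
    [1, 2, 3, 5, 7],
    [0, 1, 4, 6, 7, 8],
    [0, 3, 5, 6, 8],
    [2, 9],
    [0, 2, 3, 4, 7],
    [5, 6, 8, 9],
    [3, 5, 6, 8],
    [0, 2, 4, 7, 9],
    [5, 8, 9],
    [0, 2, 3, 4, 6, 7],
    [1, 3, 4, 6, 7, 8, 9],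
    [0, 1, 2, 4, 5],
    [3, 5, 8],
    [0, 2, 4, 6, 7, 9],
    [0, 1, 2, 4, 5, 6],
    [1, 3, 4, 7, 8, 9],
    [0, 1, 2, 3, 4, 5, 6, 8, 9],
    [1, 4, 7, 8],
    [1, 4, 6, 7, 8],
    [0, 1, 2, 3, 4, 5, 8, 9],
    [2, 3, 4, 6, 8, 9],
    [0, 4, 5, 7],
    [2, 4, 8, 9],
    [0, 3, 4, 5, 6, 7, 8],
    [1, 2, 4, 5, 7, 8],
    [0, 1, 3, 6, 8, 9],
    [0, 1, 9],
    [1, 2, 3, 4, 5, 6, 7],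
    [1, 2, 3, 4, 5, 7],
    [0, 1, 6, 9],
    [1, 2, 4, 5, 6, 7, 8],
    [0, 1, 3, 8, 9],
    [2, 4, 6, 8, 9],
    [0, 3, 4, 5, 7, 8],
    [0, 4, 5, 6, 7],
    [2, 3, 4, 8, 9],
    [0, 1, 6],
    [1, 2, 3, 4, 5, 7, 9],
    [0, 1],
    [1, 2, 3, 4, 5, 6, 7, 9],
    [0, 4, 5, 6, 7, 9],
    [2, 3, 4, 8],
    [0, 1, 3, 8],
    [1, 2, 4, 5, 6, 7, 8, 9],
    [2, 4, 6, 8],
    [0, 3, 4, 5, 7, 8, 9],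
    [0, 4, 5, 7, 9],
    [2, 3, 4, 6, 8],
    [1, 2, 4, 5, 7, 8, 9],
    [0, 1, 3, 6, 8],
    [0, 3, 4, 5, 6, 7, 8, 9],
    [2, 4, 8],
    [1, 2, 3, 6, 8],
    [0, 1, 4, 5, 7, 8],
    [0, 3, 7],
    [2, 5, 6, 9],
    [0, 7, 8, 9],
    [2, 3, 5, 6],
    [0, 1, 3, 4, 5, 6, 7],
    [1, 2],
    [0, 1, 3, 4, 5, 7],
    [1, 2, 6],
    [0, 3, 6, 7],
    [2, 5, 9],
    [2, 3, 5],
    [0, 6, 7, 8, 9],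
    [1, 2, 3, 8],
    [0, 1, 4, 5, 6, 7, 8],
    [0, 1, 3, 4, 5],
    [1, 2, 6, 7, 9],
    [0, 1, 3, 4, 5, 6],
    [1, 2, 7, 9],
    [2, 5, 7],
    [0, 3, 6],
    [2, 3, 5, 7],
    [0, 6, 8],
    [1, 2, 3, 7, 8],
    [0, 1, 4, 5, 6, 8, 9],
    [2, 3, 5, 6, 7],
    [0, 8],
    [0, 3],
    [2, 5, 6, 7],
    [1, 2, 3, 6, 7, 8],
    [0, 1, 4, 5, 8, 9],
    [0, 2, 4, 8],
    [3, 5, 6, 7, 9],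
    [3, 5, 7, 9],
    [0, 2, 4, 6, 8],
    [1, 4],
    [0, 1, 2, 3, 4, 5, 6, 7, 9],
    [1, 3, 4],
    [0, 1, 2, 4, 5, 6, 7, 8, 9],
    [5, 7, 9],
    [0, 2, 3, 4, 6, 8],
    [1, 4, 6],
    [0, 1, 2, 3, 4, 5, 7, 9],
    [5, 6, 7, 9],
    [0, 2, 3, 4, 8],
    [0, 1, 2, 4, 5, 7, 8, 9],
    [1, 3, 4, 6],
    [0, 1, 4, 7, 8, 9],
    [1, 2, 3, 5, 6, 7, 9],
    [2],
    [0, 3, 5, 6, 8, 9],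
    [0, 3, 5, 8, 9],
    [2, 6],
    [0, 1, 3, 4, 7, 8],
    [1, 2, 5, 6, 7, 9],
    [0, 5, 6, 8],
    [2, 3, 8],
    [1, 2, 3, 5, 7, 9],
    [0, 1, 4, 6, 7, 8, 9],
    [1, 2, 5, 7, 9],
    [0, 1, 3, 4, 6, 7, 8],
    [2, 3, 6, 8],
    [0, 5, 8],
    [3, 4, 8, 9],
    [0, 2, 5, 6, 7, 9],
    [1, 3, 5, 6, 8, 9],
    [0, 1, 2, 7],
    [0, 1, 2, 3, 6, 7, 8, 9],
    [1, 5, 8],
    [0, 2, 5, 7, 9],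
    [3, 4, 6, 8, 9],
    [0, 2, 3, 5, 7, 9],
    [4, 6, 8, 9],
    [0, 1, 2, 3, 7, 8, 9],
    [1, 5, 6, 8],
    [0, 2, 3, 5, 6, 7, 9],
    [4, 8, 9],
    [0, 1, 2, 6, 7],
    [1, 3, 5, 8, 9],
    [3, 5, 7, 8, 9],
    [0, 2, 4, 6, 9],
    [0, 2, 4, 9],
    [3, 5, 6, 7, 8, 9],
    [1, 3, 4, 6, 8],
    [0, 1, 2, 4, 5, 7],
    [0, 1, 2, 3, 4, 5, 7, 8],
    [1, 4, 6, 8],
    [0, 1, 2, 3, 4, 5, 6, 7, 8],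
    [1, 4, 8],
    [0, 2, 3, 4, 9],
    [5, 6, 7, 8, 9],
    [5, 7, 8, 9],
    [0, 2, 3, 4, 6, 9],
    [0, 1, 2, 4, 5, 6, 7],
    [1, 3, 4, 8],
    [0, 1, 2, 3, 4],
    [1, 4, 5, 6, 8],
    [1, 4, 5, 8],
    [0, 1, 2, 3, 4, 6],
    [0, 1, 2, 4, 6],
    [1, 3, 4, 5, 9],
    [6, 8, 9],
    [0, 2, 3, 4, 5, 8],
    [0, 2, 3, 4, 5, 6, 8],
    [8, 9],
    [0, 2, 4, 5, 9],
    [3, 6, 9],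
    [1, 3, 4, 5, 6, 9],
    [0, 1, 2, 4],
    [3, 9],
    [0, 2, 4, 5, 6, 9],
    [1, 3, 4, 6, 8, 9],
    [0, 1, 2, 4, 5, 7, 9],
    [0, 1, 2, 3, 4, 5, 6, 7, 8, 9],
    [1, 4, 8, 9],
    [1, 4, 6, 8, 9],
    [0, 1, 2, 3, 4, 5, 7, 8, 9],
    [5, 7, 8],
    [0, 2, 3, 4, 6],
    [3, 5, 7, 8],
    [0, 2, 4, 6],
    [0, 2, 3, 4],
    [5, 6, 7, 8],
    [1, 3, 4, 8, 9],
    [0, 1, 2, 4, 5, 6, 7, 9],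
    [0, 2, 4],
    [3, 5, 6, 7, 8],
    [1, 2, 4, 6],
    [0, 1, 3, 5, 8, 9],
    [2, 4, 5, 9],
    [0, 3, 4, 6, 8, 9],
    [1, 2, 4],
    [0, 1, 3, 5, 6, 8, 9],
    [2, 4, 5, 6, 9],
    [0, 3, 4, 8, 9],
    [2, 3, 4, 5, 8],
    [0, 4, 6, 8, 9],
    [1, 2, 3, 4, 6],
    [0, 1, 5, 8],
    [1, 2, 3, 4],
    [0, 1, 5, 6, 8],
    [2, 3, 4, 5, 6, 8],
    [0, 4, 8, 9],
    [1, 2, 3, 4, 5, 7, 8, 9],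
    [0, 1, 6, 8, 9],
    [0, 3, 4, 5, 6, 7],
    [2, 4],
    [0, 1, 3, 9],
    [1, 2, 4, 5, 6, 7, 9],
    [2, 3, 4],
    [0, 4, 5, 6, 7, 8],
    [0, 1, 3, 6, 9],
    [1, 2, 4, 5, 7, 9],
    [1, 2, 3, 4, 5, 6, 7, 8, 9],
    [0, 1, 8, 9],
    [0, 4, 5, 7, 8],
    [2, 3, 4, 6],
    [0, 3, 4, 5, 7],
    [2, 4, 6],
    [0, 2, 7, 8, 9],
    [3, 4, 5, 6, 7, 8],
    [3, 4, 5, 7, 8],
    [0, 2, 6, 7, 8, 9],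
    [0, 2, 3, 7],
    [4, 5, 6, 7],
    [1, 6, 9],
    [0, 1, 2, 3, 5, 8, 9],
    [0, 1, 2, 3, 5, 6, 8, 9],
    [1, 9],
    [0, 1, 2, 5, 8],
    [1, 3, 6, 8, 9],
    [0, 1, 2, 5, 6, 8],
    [1, 3, 8, 9],
    [0, 2, 3, 6, 7],
    [4, 5, 7],
    [0, 2, 4, 8, 9],
    [3, 5, 6, 7],
    [0, 1, 2, 3, 4, 5, 7],
    [1, 4, 6, 9],
    [5, 7],
    [0, 2, 3, 4, 6, 8, 9],
    [0, 1, 2, 4, 5, 6, 7, 8],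
    [1, 3, 4, 9],
    [0, 1, 2, 4, 5, 7, 8],
    [1, 3, 4, 6, 9],
    [1, 4, 9],
    [0, 1, 2, 3, 4, 5, 6, 7],
    [0, 2, 3, 4, 8, 9],
    [5, 6, 7],
    [0, 2, 4, 6, 8, 9],
    [3, 5, 7],
    [1, 2, 3, 5, 6, 7, 8],
    [0, 1, 4, 7, 9],
    [2, 3, 9],
    [0, 5, 6],
    [0, 1, 3, 4, 7],
    [1, 2, 5, 6, 7, 8],
    [0, 3, 5, 6, 9],
    [2, 8, 9],
    [0, 5],
    [2, 3, 6, 9],
    [0, 1, 3, 4, 6, 7],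
    [1, 2, 5, 7, 8],
    [0, 3, 5, 9],
    [2, 6, 8, 9],
    [1, 2, 3, 5, 7, 8],
    [0, 1, 4, 6, 7, 9],
    [1, 3, 5, 6, 7],
    [0, 1, 2, 8, 9],
    [0, 2, 5, 8],
    [3, 4, 6, 7],
    [4, 7, 9],
    [0, 2, 3, 5, 6, 8, 9],
    [1, 5, 6, 7],
    [0, 1, 2, 3, 9],
    [1, 5, 7],
    [0, 1, 2, 3, 6, 9],
    [0, 1, 2, 6, 8, 9],
    [1, 3, 5, 7],
    [3, 4, 7],
    [0, 2, 5, 6, 8],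
    [4, 6, 7, 9],
    [0, 2, 3, 5, 8, 9],
    [4, 5, 7, 8],
    [0, 2, 3, 6, 7, 8, 9],
    [1, 8, 9],
    [0, 1, 2, 3, 5, 6],
    [1, 6, 8, 9],
    [0, 1, 2, 3, 5],
    [3, 4, 5, 6, 7],
    [0, 2, 7],
    [1, 3, 6, 9],
    [0, 1, 2, 5, 9],
    [4, 5, 6, 7, 8],
    [0, 2, 3, 7, 8, 9],
    [0, 2, 6, 7],
    [3, 4, 5, 7],
    [1, 3, 9],
    [0, 1, 2, 5, 6, 9],
    [0, 2, 3, 5, 6, 7, 8, 9],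
    [4],
    [0, 1, 2, 7, 8],
    [1, 3, 5, 6],
    [0, 2, 5, 7, 8, 9],
    [3, 4, 6],
    [4, 6],
    [0, 2, 3, 5, 7, 8, 9],
    [0, 1, 2, 3, 7, 9],
    [1, 5, 6, 9],
    [1, 5, 9],
    [0, 1, 2, 3, 6, 7, 9],
    [0, 2, 5, 6, 7, 8, 9],
    [3, 4],
    [0, 1, 2, 6, 7, 8],
    [1, 3, 5],
    [],
    [0, 2, 3, 4, 5, 6],
    [6],
    [0, 2, 3, 4, 5],
    [1, 4, 5, 9],
    [0, 1, 2, 3, 4, 6, 8],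
    [1, 4, 5, 6, 9],
    [0, 1, 2, 3, 4, 8],
    [0, 1, 2, 4, 6, 8],
    [1, 3, 4, 5, 8],
    [0, 2, 4, 5, 8, 9],
    [3, 6, 8],
    [1, 3, 4, 5, 6, 8],
    [0, 1, 2, 4, 8],
    [3, 8],
    [0, 2, 4, 5, 6, 8, 9],
    [0, 2, 5, 6, 7, 8],
    [3, 4, 9],
    [1, 5, 6],
    [0, 1, 2, 3, 7],
    [4, 6, 9],
    [0, 2, 3, 5, 7, 8],
    [3, 4, 6, 9],
    [0, 2, 5, 7, 8],
    [1, 5],
    [0, 1, 2, 3, 6, 7],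
    [4, 9],
    [0, 2, 3, 5, 6, 7, 8],
    [1, 3, 5, 9],
    [0, 1, 2, 6, 7, 8, 9],
    [0, 1, 2, 7, 8, 9],
    [1, 3, 5, 6, 9],
    [0, 2, 6, 7, 9],
    [3, 4, 5, 7, 9],
    [0, 2, 7, 9],
    [3, 4, 5, 6, 7, 9],
    [4, 5, 6, 7, 8, 9],
    [0, 2, 3, 7, 8],
    [0, 1, 2, 5, 6],
    [1, 3],
    [0, 1, 2, 3, 5, 9],
    [1, 6, 8],
    [0, 2, 3, 6, 7, 8],
    [4, 5, 7, 8, 9],
    [0, 1, 2, 3, 5, 6, 9],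
    [1, 8],
    [0, 1, 2, 5],
    [1, 3, 6],
    [3, 7, 8],
    [0, 2, 4, 5, 6, 7, 8],
    [0, 2, 3, 4, 5, 7],
    [6, 7, 9],
    [0, 1, 2, 4, 7, 8, 9],
    [1, 3, 4, 5, 6, 7, 8],
    [0, 1, 2, 3, 4, 6, 7, 8],
    [1, 4, 5, 7],
    [0, 2, 3, 4, 5, 6, 7],
    [7, 9],
    [0, 1, 2, 4, 6, 7, 8, 9],
    [1, 3, 4, 5, 7, 8],
    [0, 2, 4, 5, 7, 8],
    [3, 6, 7, 8],
    [0, 1, 2, 3, 4, 7, 8],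
    [1, 4, 5, 6, 7],
    [0, 2, 4, 5, 7],
    [3, 6, 7, 9],
    [6, 7, 8],
    [0, 2, 3, 4, 5, 7, 8],
    [0, 1, 2, 3, 4, 7],
    [1, 4, 5, 6, 7, 8, 9],
    [0, 2, 4, 5, 6, 7],
    [3, 7, 9],
    [0, 1, 2, 4, 7, 9],
    [1, 3, 4, 5, 6, 7, 9],
    [1, 4, 5, 7, 8, 9],
    [0, 1, 2, 3, 4, 6, 7],
    [0, 1, 2, 4, 6, 7, 9],
    [1, 3, 4, 5, 7, 9],
    [0, 2, 3, 4, 5, 6, 7, 8],
    [7, 8],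
    [2, 3, 5, 9],
    [0, 6, 7, 8],
    [1, 2, 3, 6, 8, 9],
    [0, 1, 4, 5, 7, 8, 9],
    [0, 3, 7, 9],
    [2, 5, 6],
    [1, 2, 3, 8, 9],
    [0, 1, 4, 5, 6, 7, 8, 9],
    [2, 5],
    [0, 3, 6, 7, 9],
    [2, 3, 5, 6, 9],
    [0, 7, 8],
    [0, 1, 3, 4, 5, 6, 7, 9],
    [1, 2, 9],
    [0, 1, 3, 4, 5, 7, 9],
    [1, 2, 6, 9],
    [1, 2, 3, 4, 6, 7, 8, 9],
    [0, 1, 5, 7, 9],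
    [2, 4, 5, 7, 8, 9],
    [0, 3, 4, 6, 7, 9],
    [1, 2, 3, 4, 7, 8, 9],
    [0, 1, 5, 6, 7, 9],
    [0, 1, 3, 5, 7, 9],
    [1, 2, 4, 6, 7, 8],
    [2, 3, 4, 5, 7, 9],
    [0, 4, 6, 7],
    [2, 3, 4, 5, 6, 7, 9],
    [0, 4, 7],
    [0, 3, 4, 7, 9],
    [2, 4, 5, 6, 7, 8, 9],
    [0, 1, 3, 5, 6, 7, 9],
    [1, 2, 4, 7, 8],
    [0, 1, 4, 5],
    [1, 2, 3, 6, 7],
    [2, 5, 6, 7, 8],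
    [0, 3, 8, 9],
    [2, 5, 7, 8],
    [0, 3, 6, 8, 9],
    [0, 1, 4, 5, 6],
    [1, 2, 3, 7],
    [1, 2, 7, 8, 9],
    [0, 1, 3, 4, 5, 6, 8, 9],
    [0, 9],
    [2, 3, 5, 6, 7, 8],
    [0, 1, 3, 4, 5, 8, 9],
    [1, 2, 6, 7, 8, 9],
    [0, 6, 9],
    [2, 3, 5, 7, 8],
    [0, 1, 3, 6, 7, 9],
    [1, 2, 4, 5],
    [1, 2, 3, 4, 5, 6, 8, 9],
    [0, 1, 7, 8],
    [2, 3, 4, 7],
    [0, 4, 5, 6, 8, 9],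
    [0, 3, 4, 5],
    [2, 4, 6, 7, 9],
    [0, 1, 3, 7, 9],
    [1, 2, 4, 5, 6],
    [2, 3, 4, 6, 7],
    [0, 4, 5, 8, 9],
    [1, 2, 3, 4, 5, 8, 9],
    [0, 1, 6, 7, 8],
    [2, 4, 7, 9],
    [0, 3, 4, 5, 6],
    [0, 1, 4, 6, 9],
    [1, 2, 3, 5, 8, 9],
    [2, 3, 7],
    [0, 5, 6, 7],
    [0, 1, 3, 4, 9],
    [1, 2, 5, 6, 8],
    [0, 3, 5, 6, 7],
    [2, 7, 8, 9],
    [0, 1, 3, 4, 6, 9],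
    [1, 2, 5, 8],
    [0, 5, 7],
    [2, 3, 6, 7],
    [0, 3, 5, 7],
    [2, 6, 7, 8, 9],
    [1, 2, 3, 5, 6, 8, 9],
    [0, 1, 4, 9],
    [0, 1, 2, 4, 8, 9],
    [1, 3, 4, 5, 6, 8, 9],
    [1, 4, 5, 6],
    [0, 1, 2, 3, 4, 8, 9],
    [0, 2, 4, 5, 6, 8],
    [3, 8, 9],
    [9],
    [0, 2, 3, 4, 5, 6, 9],
    [0, 1, 2, 3, 4, 6, 8, 9],
    [1, 4, 5],
    [0, 2, 4, 5, 8],
    [3, 6, 8, 9],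
    [0, 2, 3, 4, 5, 9],
    [6, 9],
    [0, 1, 2, 4, 6, 8, 9],
    [1, 3, 4, 5, 8, 9],
    [6, 7, 8, 9],
    [0, 2, 3, 4, 5, 7, 8, 9],
    [1, 4, 5, 7, 8],
    [0, 1, 2, 3, 4, 6, 7, 9],
    [0, 2, 4, 5, 6, 7, 9],
    [3, 7],
    [1, 3, 4, 5, 7],
    [0, 1, 2, 4, 6, 7],
    [1, 4, 5, 6, 7, 8],
    [0, 1, 2, 3, 4, 7, 9],
    [7, 8, 9],
    [0, 2, 3, 4, 5, 6, 7, 8, 9],
    [3, 6, 7],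
    [0, 2, 4, 5, 7, 9],
    [0, 1, 2, 4, 7],
    [1, 3, 4, 5, 6, 7],
    [1, 2, 3, 9],
    [0, 1, 4, 5, 6, 7],
    [0, 6, 7, 9],
    [2, 3, 5, 8, 9],
    [2, 5, 8],
    [0, 3, 6, 7, 8],
    [1, 2, 6, 8, 9],
    [0, 1, 3, 4, 5, 7, 8],
    [1, 2, 8, 9],
    [0, 1, 3, 4, 5, 6, 7, 8],
    [2, 5, 6, 8],
    [0, 3, 7, 8],
    [1, 2, 3, 6, 9],
    [0, 1, 4, 5, 7],
    [2, 3, 5, 6, 8, 9],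
    [0, 7, 9],
    [3, 4, 8],
    [0, 2, 5, 6, 7],
    [0, 1, 2, 3, 6, 7, 8],
    [1, 5, 8, 9],
    [3, 4, 6, 8],
    [0, 2, 5, 7],
    [1, 5, 6, 8, 9],
    [0, 1, 2, 3, 7, 8],
    [1, 3, 5, 8],
    [0, 1, 2, 6, 7, 9],
    [1, 3, 5, 6, 8],
    [0, 1, 2, 7, 9],
    [0, 2, 3, 5, 7],
    [4, 6, 8],
    [4, 8],
    [0, 2, 3, 5, 6, 7],
    [0, 1, 4, 5, 9],
    [1, 2, 3, 6, 7, 9],
    [0],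
    [2, 3, 5, 6, 7, 8, 9],
    [2, 5, 6, 7, 8, 9],
    [0, 3, 8],
    [2, 5, 7, 8, 9],
    [0, 3, 6, 8],
    [0, 6],
    [2, 3, 5, 7, 8, 9],
    [1, 2, 7, 8],
    [0, 1, 3, 4, 5, 6, 8],
    [1, 2, 3, 7, 9],
    [0, 1, 4, 5, 6, 9],
    [1, 2, 6, 7, 8],
    [0, 1, 3, 4, 5, 8],
    [0, 1, 2, 3, 4, 5, 6, 8],
    [1, 4, 7, 8, 9],
    [3, 5, 8, 9],
    [0, 2, 4, 6, 7],
    [1, 4, 6, 7, 8, 9],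
    [0, 1, 2, 3, 4, 5, 8],
    [0, 2, 3, 4, 6, 7, 9],
    [5, 8],
    [0, 1, 2, 4, 5, 6, 9],
    [1, 3, 4, 7, 8],
    [0, 2, 4, 7],
    [3, 5, 6, 8, 9],
    [1, 3, 4, 6, 7, 8],
    [0, 1, 2, 4, 5, 9],
    [0, 2, 3, 4, 7, 9],
    [5, 6, 8],
    [0, 4, 8],
    [2, 3, 4, 5, 6, 8, 9],
    [0, 1, 5, 8, 9],
    [1, 2, 3, 4, 6, 9],
    [0, 3, 4, 6, 8],
    [2, 4, 5],
    [0, 1, 5, 6, 8, 9],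
    [1, 2, 3, 4, 9],
    [0, 4, 6, 8],
    [2, 3, 4, 5, 8, 9],
    [0, 1, 3, 5, 6, 8],
    [1, 2, 4, 9],
    [0, 1, 3, 5, 8],
    [1, 2, 4, 6, 9],
    [0, 3, 4, 8],
    [2, 4, 5, 6],
    [0, 1, 2, 5, 7],
    [1, 3, 6, 7, 9],
    [1, 3, 7, 9],
    [0, 1, 2, 5, 6, 7],
    [1, 6, 7, 8],
    [0, 1, 2, 3, 5, 7],
    [3, 4, 5],
    [0, 2, 6, 9],
    [3, 4, 5, 6],
    [0, 2, 9],
    [1, 7, 8],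
    [0, 1, 2, 3, 5, 6, 7],
    [4, 5, 8, 9],
    [0, 2, 3, 6, 8, 9],
    [4, 5, 6, 8, 9],
    [0, 2, 3, 8, 9],
    [0, 1, 3, 6],
    [1, 2, 4, 5, 7],
    [1, 2, 3, 4, 5, 6, 7, 8],
    [0, 1, 8],
    [0, 3, 4, 5, 7, 9],
    [2, 4, 6, 9],
    [2, 3, 4, 6, 9],
    [0, 4, 5, 7, 8, 9],
    [2, 3, 4, 9],
    [0, 4, 5, 6, 7, 8, 9],
    [2, 4, 9],
    [0, 3, 4, 5, 6, 7, 9],
    [0, 1, 3],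
    [1, 2, 4, 5, 6, 7],
    [1, 2, 3, 4, 5, 7, 8],
    [0, 1, 6, 8],
    [0, 1, 2, 3, 4, 6, 9],
    [1, 4, 5, 8, 9],
    [1, 4, 5, 6, 8, 9],
    [0, 1, 2, 3, 4, 9],
    [0, 1, 2, 4, 9],
    [1, 3, 4, 5, 6],
    [0, 2, 4, 5, 6],
    [3],
    [0, 2, 3, 4, 5, 8, 9],
    [6, 8],
    [3, 6],
    [0, 2, 4, 5],
    [8],
    [0, 2, 3, 4, 5, 6, 8, 9],
    [1, 3, 4, 5],
    [0, 1, 2, 4, 6, 9]]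

/-- Presentation of the Sylow 2-subgroup. -/
def pc2 : PC where
  p := 2
  n := 10
  rhs := [[4],
    [0, 1, 4, 7],
    [7],
    [0, 2, 4, 5, 7, 9],
    [1, 2, 4, 7],
    [5],
    [0, 3, 6],
    [1, 3, 6],
    [2, 3, 6, 8],
    [],
    [0, 4],
    [1, 4],
    [2, 4, 7],
    [3, 4, 8],
    [],
    [0, 5, 7],
    [1, 5, 7],
    [2, 5],
    [3, 5, 8, 9],
    [4, 5],
    [],
    [0, 6, 8],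
    [1, 6, 9],
    [2, 6, 8],
    [3, 6],
    [4, 6],
    [5, 6, 9],
    [],
    [0, 7],
    [1, 7],
    [2, 7],
    [3, 7, 9],
    [4, 7],
    [5, 7],
    [6, 7],
    [],
    [0, 8],
    [1, 8],
    [2, 8, 9],
    [3, 8],
    [4, 8],
    [5, 8],
    [6, 8],
    [7, 8],
    [],
    [0, 9],
    [1, 9],
    [2, 9],
    [3, 9],
    [4, 9],
    [5, 9],
    [6, 9],
    [7, 9],
    [8, 9],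
    []]
  defs := [(4, 0, 0), (5, 2, 2), (6, 3, 0), (7, 4, 2), (8, 4, 3), (9, 7, 3)]

/-- Conjugation data. -/
def conj2 : List Conj :=
   [(0, [8], [3, 4, 5, 7, 9]),
    (0, [7], [0, 2, 6, 7, 9]),
    (0, [7, 8], [0, 2, 3, 4, 5, 6]),
    (0, [6], [0, 2, 3, 4, 5, 7, 8]),
    (0, [4, 5], [0, 2, 3, 6, 7, 8]),
    (1, [0, 1, 5], [1, 4, 5]),
    (1, [0, 1, 5, 7], [0, 1, 2, 4, 6, 7, 8, 9]),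
    (1, [0, 1, 3, 5, 6], [1, 4, 5, 6, 8, 9]),
    (2, [5], [0, 1, 4, 5, 7, 9]),
    (3, [9], [4, 6, 8]),
    (3, [4, 5, 7], [1, 4, 5, 9]),
    (4, [9], [5])]

/-- Equations between tails. -/
def cert2 : Cert where
  eqns := [.cons [2, 1, 0] 0 1,
    .cons [3, 1, 0] 0 1,
    .cons [3, 2, 0] 0 1,
    .cons [3, 2, 1] 0 1,
    .cons [4, 1, 0] 0 1,
    .cons [4, 2, 0] 0 1,
    .cons [4, 2, 1] 0 1,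
    .cons [4, 3, 0] 0 1,
    .cons [4, 3, 1] 0 1,
    .cons [4, 3, 2] 0 1,
    .cons [5, 1, 0] 0 1,
    .cons [5, 2, 0] 0 1,
    .cons [5, 2, 1] 0 1,
    .cons [5, 3, 0] 0 1,
    .cons [5, 3, 1] 0 1,
    .cons [5, 3, 2] 0 1,
    .cons [5, 4, 2] 0 1,
    .cons [5, 4, 3] 0 1,
    .cons [6, 1, 0] 0 1,
    .cons [6, 2, 0] 0 1,
    .cons [6, 2, 1] 0 1,
    .cons [6, 3, 0] 0 1,
    .cons [6, 3, 1] 0 1,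
    .cons [6, 3, 2] 0 1,
    .cons [6, 4, 0] 0 1,
    .cons [6, 4, 1] 0 1,
    .cons [6, 4, 2] 0 1,
    .cons [6, 5, 0] 0 1,
    .cons [7, 3, 0] 0 1,
    .cons [0, 0, 0] 0 1,
    .cons [1, 1, 0] 0 1,
    .cons [2, 2, 0] 0 1,
    .cons [2, 0, 0] 0 1,
    .cons [2, 2, 2] 0 1,
    .cons [3, 3, 0] 0 1,
    .cons [3, 0, 0] 0 1,
    .cons [3, 3, 2] 0 1,
    .fus [0] [0, 0] [],
    .fus [1] [0, 0] [],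
    .fus [2] [0, 0] [],
    .fus [3] [0, 0] [],
    .fus [4] [0, 0] [],
    .fus [5] [0, 0] [],
    .fus [6] [0, 0] [],
    .fus [7] [0, 0] [],
    .fus [8] [0, 0] [],
    .fus [9] [0, 0] [],
    .fus [10] [0, 0] [],
    .fus [11] [0, 0] []]
  free := 55
  combo := [[],
    [1, 2, 3, 4, 6, 9, 10, 11, 12, 13, 15, 16, 17, 18, 19, 21, 23, 27, 28, 29, 33, 34, 36, 39, 41, 42],
    [0, 5, 6, 9, 12, 13, 16, 17, 19, 27, 29, 47],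
    [4, 7, 8, 11, 12, 15, 16, 20, 21, 23, 29, 30, 33, 36, 38, 39, 40, 42, 45, 47, 48],
    [1, 4, 5, 9, 15, 18, 19, 20, 24, 27, 28, 30, 31, 33, 35, 38, 42, 43, 45, 46, 47],
    [],
    [],
    [1, 2, 4, 5, 6, 7, 8, 9, 10, 11, 12, 13, 14, 15, 17, 18, 19, 20, 22, 23, 24, 25, 26, 28, 30, 31, 37, 40, 41, 44, 45, 46, 47],
    [2, 5, 7, 9, 11, 17, 18, 19, 20, 21, 23, 24, 27, 28, 30, 31, 32, 33, 35, 36, 37, 38, 41, 42, 45, 46, 47],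
    [5, 6, 7, 10, 15, 25, 26, 28, 32, 33, 34, 36, 37, 39, 41],
    [29],
    [1, 2, 3, 9, 10, 13, 15, 18, 19, 21, 23, 26, 28, 30, 32, 33, 34, 36, 39, 41, 48],
    [],
    [],
    [4, 5, 12, 17, 18, 20, 26, 27, 30, 31, 32, 33, 42, 45, 47],
    [5, 6, 10, 11, 16, 18, 20, 29, 30, 31, 33, 42, 45, 47, 48],
    [0, 1, 2, 3, 5, 6, 7, 8, 9, 10, 12, 14, 15, 16, 17, 18, 19, 21, 23, 27, 28, 29, 30, 32, 33, 34, 36, 39, 41, 48],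
    [33],
    [1, 2, 3, 5, 6, 8, 10, 11, 12, 15, 16, 18, 19, 20, 22, 25, 28],
    [1, 2, 3, 9, 13, 15, 16, 17, 18, 19, 21, 23, 25, 27, 28, 29, 30, 32, 33, 34, 36, 39, 41, 42, 45, 47, 48],
    [9, 11, 12, 13, 16, 17, 19, 27, 48],
    [1, 3, 5, 8, 9, 12, 16, 19, 23, 27, 28, 34, 35, 39, 40],
    [3, 6, 7, 9, 10, 11, 15, 17, 20, 25, 27, 28, 35, 36, 39, 40],
    [1, 3, 4, 6, 10, 12, 20, 21, 24, 26, 30, 31, 32, 33, 34, 35, 36, 42, 45, 46, 47],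
    [1, 3, 5, 8, 9, 12, 16, 19, 21, 23, 27, 28, 34, 36, 39, 40],
    [1, 3, 4, 8, 11, 12, 13, 18, 20, 21, 24, 26, 27, 28, 30, 31, 32, 33, 34, 39, 40, 42, 45, 46, 47],
    [1, 3, 4, 5, 6, 7, 10, 11, 12, 20, 23, 26, 27, 28, 30, 31, 32, 33, 34, 39, 40, 42, 45, 46, 47],
    [1, 3, 5, 8, 9, 12, 16, 19, 21, 23, 27, 28, 36, 39, 40],
    [1, 2, 3, 6, 9, 10, 13, 15, 17, 18, 19, 21, 23, 25, 27, 28, 29, 30, 32, 33, 34, 36, 39, 41, 42, 45, 47, 48],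
    [6],
    [1, 2, 3, 4, 9, 12, 13, 15, 17, 18, 19, 21, 23, 25, 27, 28, 29, 30, 32, 33, 34, 36, 39, 41, 42, 45, 47, 48],
    [],
    [4],
    [16],
    [7, 11, 12, 15, 16, 18, 19, 20, 24, 25, 26, 27],
    [5, 12, 18, 20, 25, 29, 31, 32, 33],
    [1, 3, 4, 7, 8, 11, 12, 13, 18, 20, 23, 24, 26, 27, 28, 30, 31, 32, 33, 34, 39, 40, 42, 45, 46, 47],
    [1, 3, 4, 11, 12, 13, 18, 20, 23, 24, 26, 27, 28, 30, 31, 32, 33, 34, 39, 40, 42, 45, 46, 47],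
    [1, 3, 4, 5, 6, 9, 10, 11, 12, 13, 20, 21, 27, 30, 31, 32, 33, 34, 39, 40, 42, 45, 46, 47],
    [23],
    [24],
    [8, 18, 21, 23, 24, 25, 27],
    [21, 23],
    [7, 11, 12, 15, 16, 18, 19, 20, 25, 27],
    [21, 34, 36],
    [5, 6, 10, 17, 26, 27],
    [5, 6, 7, 8, 10, 13, 14, 17, 26, 27],
    [5, 6, 10, 17, 18, 20, 26, 27],
    [5, 6, 7, 10, 11, 12, 15, 16, 17, 18, 19, 20, 22, 24, 25, 28],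
    [25],
    [5, 6, 10, 11, 12, 16, 25],
    [5, 6, 7, 10, 11, 12, 15, 16, 17, 18, 19, 20, 24, 25, 28],
    [5, 6, 10, 25],
    [8, 17, 18, 21, 23, 27],
    [9, 11, 12, 13, 16, 17, 19, 27]]

/-- The certificate. -/
def tab2 : TableCert where
  P := pc2
  ews := [[3, 5, 2, 3, 2, 3, 1, 2, 3, 6, 2, 1, 3, 2, 3, 6, 1, 2, 3, 4, 2, 3, 5, 1, 2, 1, 0, 3, 0, 6, 3],
    [3, 6, 5, 3, 1, 2, 3, 5, 4, 1, 2, 3, 0, 2, 3, 4, 1, 2, 3, 5, 2, 3, 6, 4, 3, 2, 3],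
    [6, 4, 2, 3, 2, 3, 1, 2, 3, 6, 5, 3, 2, 3, 4, 1, 2, 3, 6, 1, 2, 3, 1, 2, 3, 4, 1, 3, 5, 0, 4, 1, 6],
    [0, 1, 2, 3, 6, 3, 2, 3, 5, 1, 0, 2, 3, 5, 2, 3, 1, 2, 3, 6, 3, 2, 1, 0],
    [3, 5, 4, 3, 1, 2, 3, 2, 1, 4, 3, 6, 3, 4, 2, 3, 2, 3, 5, 4, 3, 1],
    [2, 3, 0, 1, 2, 3, 5, 2, 3, 6, 2, 3, 1, 2, 3, 5, 2, 3, 2, 3, 6, 3, 1, 2, 3, 2, 6, 4, 1, 3],
    [4, 1, 2, 3, 5, 3, 2, 3, 1, 2, 3, 1, 0, 4, 2, 3, 5, 6, 3, 1, 2, 3, 5, 6, 3, 1, 4],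
    [6, 3, 1, 2, 3, 6, 3, 4, 3, 1, 2, 3, 1, 6, 2, 3, 2, 3, 5, 3, 4, 1, 2, 3, 1, 2, 5, 1, 3, 4, 2, 1, 0],
    [4, 2, 3, 6, 1, 2, 3, 1, 2, 3, 1, 2, 3, 6, 5, 3, 2, 3, 6, 4, 3, 1, 2, 3, 2, 1, 6, 0],
    [6, 0, 1, 2, 3, 2, 3, 6, 4, 3, 1, 2, 0, 3, 5, 2, 3, 2, 3, 1, 2, 3, 5, 2, 1, 0, 2, 5, 0, 6, 3, 4, 2]]
  gws := [[6, 4, 1, 2, 3, 5, 2, 3, 6, 4, 2, 1],
    [6, 3, 2, 3, 4, 1, 2, 3, 6, 3, 2, 3, 2, 3, 1, 2, 3, 5, 4, 3, 2, 3, 5, 3, 1, 2, 4, 3, 1],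
    [2, 3, 5, 3, 0, 1, 2, 3, 1, 2, 3, 4, 1, 2, 3, 6, 2, 3, 5, 1, 2, 3, 6, 4, 3, 1, 4, 2, 5, 3, 2, 0],
    [2, 3, 6, 5, 3, 2, 3, 0, 1, 2, 3, 2, 0, 5, 3, 6, 1, 2, 3, 1, 2, 3, 5, 3, 6, 2, 3, 5],
    [3, 2, 3, 1, 2, 3, 5, 1, 2, 3, 2, 1, 3, 2, 3, 6, 3, 5, 2, 3, 2, 3, 5, 2, 1]]
  C := conj2
  K := cert2
  els := els2

theorem tab2_rel : tab2.chkRel actA [0, 1, 2, 3, 5, 8, 1435] = true := by decide +kernel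

theorem tab2_card : tab2.chkCard actA [0, 1, 2, 3, 5, 8, 1435] = true := by decide +kernel

theorem tab2_tails : tab2.K.check tab2.P tab2.C = true := by decide +kernel

theorem sylow2 : Nonempty (SylowCert Spor.He 2) :=
  have := finite
  TableCert.sylowCert homA (by decide +kernel) det card_eq rfl (by decide) tab2_rel tab2_card tab2_tails
    (le_of_eq rfl) (by decide +kernel)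

end Cfsg.Agent.Spor.Cos.He.Mult
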