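import Cfsg.Agent.Lib.Grp.SchurM.TailTable
import Cfsg.Agent.Lib.Spor.Cos.He.Order

/-! A Sylow 3-subgroup with equations killing the tails. -/

set_option autoImplicit false
set_option maxRecDepth 100000
set_option maxHeartbeats 8000000

open Cfsg.Agent.Spor.Cos Cfsg.Agent.Grp.SchurM.Tails

namespace Cfsg.Agent.Spor.Cos.He.Mult

/-- Elements of the Sylow 3-subgroup, as words in the presentation. -/
def els3 : List (List ℕ) :=
   [[2],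
    [0, 0, 2],
    [0, 1, 2],
    [1, 2, 2],
    [0, 1, 2, 2],
    [1, 1, 2],
    [1, 1],
    [0, 1, 1, 2, 2],
    [0, 0, 1, 1, 2],
    [0, 0],
    [0, 0, 2, 2],
    [1, 2],
    [0, 1, 1],
    [1],
    [0, 0, 1, 2, 2],
    [0, 0, 1, 1, 2, 2],
    [0, 1, 1, 2],
    [],
    [0, 2],
    [1, 1, 2, 2],
    [0, 2, 2],
    [0, 0, 1, 2],
    [2, 2],
    [0],
    [0, 1],
    [0, 0, 1, 1],
    [0, 0, 1]]

/-- Presentation of the Sylow 3-subgroup. -/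
def pc3 : PC where
  p := 3
  n := 3
  rhs := [[],
    [0, 1, 2],
    [],
    [0, 2],
    [1, 2],
    []]
  defs := [(2, 1, 0)]

/-- Conjugation data. -/
def conj3 : List Conj :=
   [(0, [0, 1], [0, 0, 1, 1]),
    (1, [1], [0, 0, 1, 1, 2]),
    (1, [2], [2]),
    (2, [2], [2]),
    (2, [0, 1], [1, 2, 2])]

/-- Equations between tails. -/
def cert3 : Cert where
  eqns := [.cons [1, 1, 1, 0] 0 2,
    .fus [0] [0, 0, 0] [],
    .fus [1] [0, 0, 0] [],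
    .fus [2, 1] [0, 1] [1, 0],
    .fus [3, 4] [0, 1] [1, 0]]
  free := 6
  combo := [[0, 0, 1, 2, 2, 3, 3],
    [],
    [0, 0, 1, 2],
    [4],
    [3, 3, 4],
    [0, 0]]

/-- The certificate. -/
def tab3 : TableCert where
  P := pc3
  ews := [[1, 2, 3, 2, 3, 5, 2, 3, 4, 1, 2, 3, 2, 5, 3, 1, 2, 3, 6, 2, 3, 5, 2, 3, 1, 2, 5, 4, 0, 3, 5],
    [6, 3, 5, 3, 6, 3, 1, 2, 3, 2, 3, 1, 0, 2, 3, 4, 2, 3, 6, 2, 3, 1, 2, 3, 2, 1],
    [5, 6, 1, 2, 3, 2, 3, 1, 2, 3, 5, 2, 0, 3, 6, 3, 4, 1, 2, 3, 2, 3, 6, 3, 1, 2, 6, 3, 2, 0, 3, 6]]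
  gws := [[3, 6, 0, 1, 2, 3, 5, 1, 2, 3, 1, 2, 1, 3, 2, 3, 6, 3, 2, 3, 4, 1, 2, 3, 5, 3, 2, 0, 3, 5, 4, 0],
    [5, 3, 6, 2, 3, 5, 6, 3, 1, 2, 3, 1, 0, 2, 3, 6, 3, 5, 3, 6, 1, 2, 3, 1, 2, 1, 3, 6],
    [2, 3, 6, 3, 5, 3, 6, 2, 1, 3, 2, 3, 1, 2, 3, 4, 1, 2, 3, 2, 0, 1]]
  C := conj3
  K := cert3
  els := els3

theorem tab3_rel : tab3.chkRel actA [0, 1, 2, 3, 5, 8, 1435] = true := by decide +kernel

theorem tab3_card : tab3.chkCard actA [0, 1, 2, 3, 5, 8, 1435] = true := by decide +kernel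

theorem tab3_tails : tab3.K.check tab3.P tab3.C = true := by decide +kernel

theorem sylow3 : Nonempty (SylowCert Spor.He 3) :=
  have := finite
  TableCert.sylowCert homA (by decide +kernel) det card_eq rfl (by decide) tab3_rel tab3_card tab3_tails
    (le_of_eq rfl) (by decide +kernel)

end Cfsg.Agent.Spor.Cos.He.Mult
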