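import Cfsg.Agent.Lib.Grp.SchurM.TailTable
import Cfsg.Agent.Lib.Spor.Cos.He.Order

/-! A Sylow 5-subgroup with equations killing the tails. -/

set_option autoImplicit false
set_option maxRecDepth 100000
set_option maxHeartbeats 8000000

open Cfsg.Agent.Spor.Cos Cfsg.Agent.Grp.SchurM.Tails

namespace Cfsg.Agent.Spor.Cos.He.Mult

/-- Elements of the Sylow 5-subgroup, as words in the presentation. -/
def els5 : List (List ℕ) :=
   [[1],
    [0, 0, 0, 1, 1, 1, 1],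
    [1, 1, 1],
    [0, 1, 1],
    [0, 1],
    [0, 0, 0, 1, 1, 1],
    [0, 0, 0, 0],
    [0, 0, 0, 0, 1],
    [0, 0],
    [0, 1, 1, 1],
    [0, 0, 1, 1, 1],
    [0, 1, 1, 1, 1],
    [0, 0, 0, 0, 1, 1, 1, 1],
    [1, 1, 1, 1],
    [0, 0, 0],
    [],
    [0, 0, 0, 0, 1, 1],
    [0, 0, 0, 1],
    [0],
    [1, 1],
    [0, 0, 1, 1, 1, 1],
    [0, 0, 1],
    [0, 0, 0, 1, 1],
    [0, 0, 1, 1],
    [0, 0, 0, 0, 1, 1, 1]]

/-- Presentation of the Sylow 5-subgroup. -/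
def pc5 : PC where
  p := 5
  n := 2
  rhs := [[],
    [0, 1],
    []]
  defs := []

/-- Conjugation data. -/
def conj5 : List Conj :=
   [(0, [1], [1, 1, 1]),
    (0, [0], [0, 0, 0])]

/-- Equations between tails. -/
def cert5 : Cert where
  eqns := [.fus [0] [0, 0, 0, 0, 0] [],
    .fus [1] [0, 0, 0, 0, 0] [],
    .fus [0, 1] [0, 1] [1, 0]]
  free := 3
  combo := [[1, 1],
    [2, 2, 2],
    [0, 0]]

/-- The certificate. -/
def tab5 : TableCert where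
  P := pc5
  ews := [[1, 2, 3, 1, 2, 3, 5, 4, 2, 3, 2, 1, 0, 4, 3, 5, 2, 3, 2, 3, 6, 3, 1, 2, 0, 1],
    [1, 2, 3, 4, 2, 3, 1, 2, 3, 5, 3, 2, 0, 1, 2, 3, 4, 2, 3, 6, 4, 3, 1, 2, 3, 4, 5, 1, 2, 4, 5, 6]]
  gws := [[2, 3, 5, 4, 1, 2, 3, 6, 4, 3, 5, 2, 1, 3, 2, 3, 6, 4, 2, 3, 2, 3, 4, 1, 2, 3, 6, 4, 4, 4, 3, 5, 1]]
  C := conj5
  K := cert5
  els := els5

theorem tab5_rel : tab5.chkRel actA [0, 1, 2, 3, 5, 8, 1435] = true := by decide +kernel

theorem tab5_card : tab5.chkCard actA [0, 1, 2, 3, 5, 8, 1435] = true := by decide +kernel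

theorem tab5_tails : tab5.K.check tab5.P tab5.C = true := by decide +kernel

theorem sylow5 : Nonempty (SylowCert Spor.He 5) :=
  have := finite
  TableCert.sylowCert homA (by decide +kernel) det card_eq rfl (by decide) tab5_rel tab5_card tab5_tails
    (le_of_eq rfl) (by decide +kernel)

end Cfsg.Agent.Spor.Cos.He.Mult
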