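import Cfsg.Agent.Lib.Grp.SchurM.TailTable
import Cfsg.Agent.Lib.Spor.Cos.He.Order

/-! A Sylow 7-subgroup with equations killing the tails. -/

set_option autoImplicit false
set_option maxRecDepth 100000
set_option maxHeartbeats 8000000

open Cfsg.Agent.Spor.Cos Cfsg.Agent.Grp.SchurM.Tails

namespace Cfsg.Agent.Spor.Cos.He.Mult

/-- Elements of the Sylow 7-subgroup, as words in the presentation. -/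
def els7 : List (List ℕ) :=
   [[0, 0, 0, 1, 1, 1, 2, 2, 2, 2, 2],
    [1, 1, 1, 1, 2, 2, 2, 2, 2],
    [1, 1, 1, 1, 2, 2],
    [0, 1, 1, 2, 2, 2, 2, 2],
    [0, 1, 1, 1, 1, 2, 2, 2],
    [1, 1, 1, 1, 1, 2, 2],
    [2, 2],
    [0, 0, 0, 0, 0, 1, 1, 1, 1, 2, 2, 2, 2, 2, 2],
    [0, 0, 0, 0, 0, 1],
    [0, 0, 0, 0, 1],
    [1, 1, 1, 2, 2, 2, 2],
    [0, 0, 0, 0, 0, 0, 1, 1, 1, 2, 2, 2, 2],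
    [1, 1, 2, 2, 2, 2],
    [0, 0, 1, 1, 1, 1, 2, 2, 2, 2, 2, 2],
    [2],
    [0, 1, 1, 2, 2, 2],
    [0, 1, 2, 2],
    [0, 0, 0, 0, 0, 0, 2, 2, 2],
    [0, 1, 1, 1, 1, 2, 2],
    [0, 0, 0, 0, 0, 0, 1, 1, 2],
    [0, 0, 1, 1, 1, 1, 2, 2],
    [0, 0, 1, 1, 2],
    [0, 0, 0, 1, 1, 1, 1, 1, 1],
    [0, 0, 0, 0, 1, 1, 1, 1, 1, 1, 2, 2, 2],
    [0, 0, 1, 1, 1, 1, 1, 1, 2, 2],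
    [0, 1, 1, 1, 1, 2],
    [0, 0, 1, 1, 1, 1, 1, 1, 2, 2, 2, 2, 2, 2],
    [0, 0, 0, 0, 0, 1, 1, 1, 1, 1, 2, 2, 2, 2, 2, 2],
    [0, 0, 0, 0, 1, 2, 2, 2, 2, 2],
    [1, 2, 2],
    [0, 0, 0, 1, 2, 2],
    [0, 0, 0, 0, 0, 1, 1, 1, 2, 2, 2],
    [0, 0, 0, 0, 0, 0, 1, 1, 1, 2],
    [0, 0, 0, 1, 1, 1, 2, 2],
    [0, 0, 0, 0, 0, 0, 1, 1, 1, 1, 1, 2, 2, 2, 2, 2, 2],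
    [0, 0, 0, 1, 1, 1, 1, 1, 2, 2],
    [0, 0, 2, 2, 2, 2, 2],
    [1, 1, 2, 2, 2, 2, 2],
    [0, 0, 0, 1, 1, 1, 1, 1, 1, 2, 2, 2, 2, 2, 2],
    [1, 1, 2, 2],
    [0, 0, 1, 1, 2, 2, 2, 2, 2, 2],
    [0, 0, 0, 0, 1, 1, 1, 1, 1, 2, 2, 2, 2, 2, 2],
    [0, 0, 0, 0, 0, 0, 2, 2],
    [0, 0, 0, 0, 0, 0, 1, 2],
    [0, 0, 0, 0, 0, 1, 1, 1, 1, 1, 1, 2, 2, 2, 2],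
    [0, 0, 0, 0, 0, 0, 1, 1, 1, 1, 2, 2],
    [1, 1, 2],
    [0, 1, 1, 1, 1, 1, 2, 2, 2, 2],
    [1, 1, 1, 2, 2],
    [0, 1, 1, 1, 1, 1, 2, 2, 2, 2, 2, 2],
    [0, 2],
    [0, 2, 2, 2],
    [0, 0, 0, 1, 2, 2, 2, 2],
    [0, 1, 1, 1, 1],
    [0, 1, 1, 1, 1, 1, 1],
    [0, 0, 0, 0, 0, 0, 1, 1, 1, 1, 1, 2, 2, 2],
    [1, 1, 2, 2, 2, 2, 2, 2],
    [1, 2, 2, 2, 2],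
    [0, 0, 0, 1, 1, 1, 1, 1, 2, 2, 2, 2, 2],
    [1, 1, 1, 1, 1, 2, 2, 2, 2, 2],
    [0, 0, 0, 0, 0, 1, 1, 1, 1, 1, 2, 2],
    [0, 0, 0, 0, 1, 1, 1, 1, 1, 1, 2],
    [0, 0, 1, 1, 1, 1],
    [0, 1, 1, 1, 2],
    [0, 0, 0, 0, 0, 1, 1, 2, 2, 2, 2],
    [0, 1, 1, 1, 2, 2],
    [1, 1, 1, 1, 2, 2, 2],
    [1, 1, 1, 1],
    [0, 0, 0, 0, 0, 0, 1, 1, 2, 2, 2],
    [0, 0, 0, 1, 1, 1, 1, 1, 1, 2, 2],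
    [0, 0, 0, 1, 1, 1, 1, 2, 2],
    [0, 0, 1, 1, 1, 1, 2, 2, 2, 2],
    [0, 0, 1, 1, 1, 1, 2],
    [0, 0, 1, 2, 2, 2, 2],
    [0, 0, 0, 0, 1, 1, 1, 2, 2, 2],
    [0, 1, 1, 2, 2, 2, 2, 2, 2],
    [0, 1, 1],
    [1, 1, 2, 2, 2],
    [0, 1, 1, 1, 1, 1, 1, 2, 2, 2, 2, 2],
    [0, 0, 0, 1, 1, 1, 1, 1, 1, 2, 2, 2],
    [1, 1, 1, 1, 1, 1, 2, 2, 2, 2, 2],
    [0, 0, 0, 0, 0, 2, 2, 2, 2],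
    [1, 1, 1, 1, 1, 2],
    [0, 0, 0, 1, 1, 1, 1, 1, 2, 2, 2, 2, 2, 2],
    [1, 1, 1, 1, 2, 2, 2, 2],
    [0, 0, 0, 0, 0, 2, 2, 2, 2, 2],
    [0, 0, 0, 1, 1, 2, 2],
    [0, 0, 0, 1, 1, 1],
    [0, 0, 1, 2, 2, 2, 2, 2, 2],
    [0, 0, 1, 1, 2, 2, 2, 2],
    [0, 0, 1, 1, 1],
    [0, 0, 0, 1, 2, 2, 2],
    [0, 0, 1, 1, 1, 1, 2, 2, 2],
    [0, 0, 0, 1, 1, 2, 2, 2, 2],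
    [0, 0, 0, 1, 1, 1, 2],
    [0, 0, 1, 2, 2],
    [0, 0, 1, 1, 1, 2, 2, 2, 2, 2, 2],
    [0, 0, 1, 1, 1, 1, 1, 2, 2, 2, 2],
    [0, 0, 0, 0, 1, 1, 1, 1, 1, 2],
    [0, 0, 0, 0, 0, 0, 2],
    [1, 1, 1, 1, 1],
    [0, 1, 1, 1, 1, 2, 2, 2, 2, 2],
    [0, 0, 0, 2, 2],
    [0, 0, 0, 1, 1, 1, 1, 2, 2, 2, 2],
    [2, 2, 2],
    [0, 0, 0, 1, 2, 2, 2, 2, 2, 2],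
    [0, 1, 1, 1, 1, 1, 1, 2, 2, 2, 2],
    [0, 2, 2],
    [0, 0, 1, 1, 1, 1, 1, 2, 2, 2, 2, 2, 2],
    [0, 0, 0, 0, 1, 1, 1, 1, 1, 1],
    [0, 0, 0, 0, 0, 0, 1, 2, 2, 2, 2],
    [1, 1, 1, 1, 1, 1, 2, 2],
    [0, 1, 1, 1, 1, 1, 1, 2, 2],
    [0, 0, 1, 1, 1, 1, 1, 1],
    [0, 0, 0, 0, 0, 0],
    [0, 0, 2, 2, 2, 2],
    [0, 0, 0, 0, 0, 0, 1, 1, 1, 1, 2, 2, 2, 2],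
    [0, 1, 1, 1],
    [0, 0, 0, 2, 2, 2, 2, 2, 2],
    [0, 0, 0, 0, 1, 1, 1, 1, 1, 2, 2, 2],
    [0, 0, 0, 0, 0, 2, 2, 2],
    [0, 0, 1, 1, 1, 2, 2, 2],
    [0, 0, 0, 0, 0, 1, 1, 1, 2, 2],
    [0, 0, 0, 0, 0, 0, 1, 1, 1, 1, 2, 2, 2, 2, 2, 2],
    [1, 1, 1, 2, 2, 2, 2, 2, 2],
    [0, 0, 0, 2, 2, 2],
    [0, 0, 0],
    [0, 0, 0, 0, 2, 2, 2],
    [0, 0, 1, 1, 1, 2],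
    [0, 0, 0, 0, 0, 1, 1, 1],
    [0, 1, 1, 1, 2, 2, 2],
    [0, 0, 0, 1, 1, 1, 1, 1, 2],
    [0, 1, 2],
    [0, 1, 1, 1, 1, 1, 2, 2],
    [0, 0, 0, 0, 1, 1, 1, 1, 1],
    [0, 0, 1, 1, 1, 1, 1],
    [0, 0, 1, 1, 1, 1, 1, 2, 2],
    [0, 1, 1, 1, 1, 1, 2, 2, 2],
    [0, 1, 1, 1, 1, 1],
    [0, 0, 0, 0, 1, 1, 2],
    [0, 0, 0, 0, 0, 1, 1, 1, 1, 2, 2, 2, 2, 2],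
    [0, 0, 0, 0, 1, 1, 1, 1, 1, 2, 2, 2, 2, 2],
    [0, 0, 0, 0, 1, 1, 1, 1, 2, 2],
    [0, 0, 0, 0, 0, 1, 1, 2, 2, 2, 2, 2],
    [0, 0, 0, 0, 2, 2, 2, 2, 2],
    [0, 0, 0, 0, 0, 1, 1, 1, 1, 2],
    [0, 0, 0, 2, 2, 2, 2],
    [0, 0, 0, 0, 0, 0, 1, 1, 1, 1, 1, 1, 2, 2, 2, 2, 2, 2],
    [0, 0, 0, 2],
    [0, 0, 0, 0, 0, 0, 1, 1, 1, 2, 2],
    [0, 0, 0, 0, 0, 1, 2, 2],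
    [0, 0, 0, 1],
    [0, 0, 0, 0, 1, 1, 1, 1, 1, 2, 2, 2, 2],
    [0, 0, 0, 0, 1, 1, 1, 1, 1, 1, 2, 2, 2, 2, 2, 2],
    [0, 0, 0, 0, 1, 1, 1, 1, 2, 2, 2, 2],
    [0, 0, 0, 1, 1, 1, 1, 2],
    [0, 1, 1, 1, 1, 1, 1, 2],
    [0, 0, 1, 1, 1, 1, 1, 2, 2, 2],
    [0, 0, 0, 0, 0, 1, 1, 1, 1, 2, 2, 2],
    [0, 0, 0, 0, 2],
    [0, 0, 0, 0],
    [0, 0, 0, 0, 0, 0, 1, 1, 2, 2, 2, 2, 2, 2],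
    [0, 0, 0, 0, 1, 1, 1, 2, 2, 2, 2, 2],
    [0, 0, 0, 0, 0, 1, 1, 2],
    [0, 0, 0, 1, 1, 1, 1, 2, 2, 2],
    [0, 1, 1, 2],
    [0, 0, 0, 0, 0, 0, 1, 2, 2, 2, 2, 2],
    [1, 2, 2, 2],
    [0, 0, 0, 0, 0, 0, 1, 1, 1, 1, 1, 1],
    [0, 0, 1, 1, 1, 1, 1, 1, 2, 2, 2, 2, 2],
    [0, 0, 0, 0, 0, 1, 2, 2, 2],
    [0, 0, 0, 0, 1, 1, 2, 2, 2],
    [0, 0, 0, 0, 0, 1, 1, 1, 2, 2, 2, 2, 2],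
    [0, 1, 1, 1, 1, 1, 1, 2, 2, 2],
    [0, 0, 0, 0, 0, 0, 1, 1, 1, 1, 2],
    [0, 0, 0, 0, 0, 1, 2, 2, 2, 2, 2],
    [0, 1, 1, 1, 1, 1, 1, 2, 2, 2, 2, 2, 2],
    [0, 0, 0, 0, 0, 0, 1],
    [0, 0, 0, 0, 1, 1, 1, 1, 2, 2, 2, 2, 2, 2],
    [0, 0, 0, 1, 1, 1, 1, 2, 2, 2, 2, 2],
    [0, 0, 0, 0, 0, 1, 1, 2, 2, 2],
    [0, 0, 0, 0, 1, 2],
    [0, 0, 0, 0, 0, 1, 1],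
    [0, 0, 0, 0, 1, 1, 1, 2, 2],
    [0, 0, 0, 0, 1, 1, 2, 2, 2, 2, 2],
    [0, 0, 1, 1, 1, 1, 2, 2, 2, 2, 2],
    [0, 0, 0, 0, 0, 1, 2, 2, 2, 2],
    [0, 0, 0, 0, 1, 2, 2],
    [0, 0, 1, 1, 1, 1, 1, 1, 2, 2, 2],
    [0, 0, 0, 0, 0, 1, 1, 1, 1, 2, 2],
    [0, 0, 0, 0, 0, 0, 1, 1, 2, 2, 2, 2, 2],
    [0, 0, 0, 0, 1, 1, 1, 1, 2],
    [0, 0, 1, 1, 1, 1, 1, 1, 2, 2, 2, 2],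
    [1, 1, 1, 2],
    [2, 2, 2, 2, 2],
    [0, 0, 1, 1, 2, 2],
    [0, 0, 0, 0, 0, 1, 1, 1, 1, 1],
    [0, 0, 0, 0, 0, 1, 1, 2, 2],
    [0, 0, 0, 0, 1, 1, 1, 1, 2, 2, 2],
    [0, 0, 0, 0, 2, 2],
    [0, 1, 1, 1, 1, 1, 2],
    [1, 1],
    [0, 0, 2],
    [0, 0, 0, 0, 1, 1, 1],
    [0, 1, 1, 1, 2, 2, 2, 2, 2, 2],
    [1, 1, 1, 1, 1, 1],
    [0, 0, 0, 0, 0, 0, 1, 1, 2, 2],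
    [0, 0, 0, 1, 1, 2, 2, 2, 2, 2, 2],
    [0, 0, 0, 0, 1, 1, 1, 1, 2, 2, 2, 2, 2],
    [0, 0, 0, 0, 0, 0, 1, 1, 1, 1, 1, 2],
    [0, 0, 0, 0, 0, 0, 1, 1, 1, 1, 2, 2, 2, 2, 2],
    [0, 0, 0, 0, 0, 0, 1, 1, 1, 1, 1, 2, 2],
    [0, 0, 0, 0, 0, 0, 1, 1, 1, 1, 2, 2, 2],
    [0, 0, 0, 0, 0, 0, 1, 1],
    [1, 1, 1, 2, 2, 2],
    [2, 2, 2, 2],
    [0, 0, 0, 0, 0, 0, 1, 1, 1, 2, 2, 2, 2, 2, 2],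
    [0, 0, 0, 1, 1, 1, 1, 2, 2, 2, 2, 2, 2],
    [0, 0, 0, 1, 1, 1, 1, 1, 1, 2, 2, 2, 2],
    [1, 1, 1, 1, 2, 2, 2, 2, 2, 2],
    [0, 0, 0, 0, 0, 1, 1, 1, 1, 1, 2],
    [0, 0, 1, 1, 1, 1, 1, 1, 2],
    [1, 2, 2, 2, 2, 2, 2],
    [0, 0, 1, 2, 2, 2],
    [0, 1, 1, 1, 1, 2, 2, 2, 2],
    [0, 0, 0, 0, 1, 2, 2, 2, 2],
    [0, 0, 1, 1, 1, 1, 1, 2, 2, 2, 2, 2],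
    [0, 1],
    [0, 0, 0, 0, 0, 2],
    [0, 0, 0, 0, 0, 2, 2, 2, 2, 2, 2],
    [0, 0, 0, 0, 0, 0, 2, 2, 2, 2, 2, 2],
    [0, 1, 1, 1, 2, 2, 2, 2],
    [0, 0, 0, 1, 2, 2, 2, 2, 2],
    [0, 0, 1],
    [0],
    [0, 0, 0, 1, 1, 2, 2, 2, 2, 2],
    [0, 0, 1, 2, 2, 2, 2, 2],
    [0, 0, 0, 1, 1, 1, 1, 1, 1, 2, 2, 2, 2, 2],
    [0, 0, 0, 0, 1, 1, 1, 2, 2, 2, 2],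
    [0, 0, 0, 0, 0, 1, 1, 1, 2],
    [1, 1, 1],
    [],
    [1, 1, 1, 1, 1, 1, 2, 2, 2, 2],
    [0, 0, 0, 0, 0, 0, 1, 2, 2],
    [0, 0, 0, 0, 1, 1, 2, 2, 2, 2],
    [0, 0, 0, 0, 1, 1, 1, 2],
    [0, 0, 0, 0, 1, 1, 2, 2, 2, 2, 2, 2],
    [0, 0, 2, 2],
    [0, 0, 0, 0, 0, 1, 2, 2, 2, 2, 2, 2],
    [0, 1, 2, 2, 2, 2, 2],
    [0, 0, 0, 1, 1, 2],
    [0, 1, 2, 2, 2],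
    [0, 0, 0, 0, 0, 1, 1, 1, 1, 2, 2, 2, 2],
    [0, 0, 0, 0, 2, 2, 2, 2, 2, 2],
    [0, 2, 2, 2, 2],
    [0, 0, 0, 0, 0, 0, 1, 1, 1, 1, 1, 1, 2, 2, 2, 2],
    [0, 1, 2, 2, 2, 2],
    [0, 0, 0, 0, 0, 0, 2, 2, 2, 2, 2],
    [0, 0, 0, 0, 0, 1, 1, 1, 1, 1, 2, 2, 2],
    [0, 0, 0, 0, 1, 2, 2, 2, 2, 2, 2],
    [0, 0],
    [0, 0, 0, 0, 0, 1, 1, 1, 2, 2, 2, 2],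
    [0, 0, 0, 1, 1, 1, 2, 2, 2, 2, 2, 2],
    [0, 1, 1, 2, 2],
    [1],
    [0, 0, 0, 1, 1, 1, 2, 2, 2, 2],
    [2, 2, 2, 2, 2, 2],
    [0, 0, 1, 1, 1, 2, 2, 2, 2],
    [0, 1, 1, 1, 1, 1, 2, 2, 2, 2, 2],
    [0, 0, 1, 1],
    [1, 1, 1, 1, 1, 1, 2, 2, 2],
    [1, 1, 1, 1, 1, 2, 2, 2, 2, 2, 2],
    [0, 0, 0, 0, 0, 1, 1, 1, 1, 1, 1, 2, 2, 2, 2, 2],
    [0, 0, 0, 0, 0, 1, 1, 1, 1, 1, 1, 2, 2, 2],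
    [0, 0, 0, 0, 1, 1, 1, 1, 1, 1, 2, 2, 2, 2, 2],
    [0, 0, 0, 1, 1, 2, 2, 2],
    [0, 0, 0, 1, 2],
    [0, 1, 2, 2, 2, 2, 2, 2],
    [0, 0, 0, 0, 0, 1, 1, 1, 1, 1, 1, 2, 2, 2, 2, 2, 2],
    [0, 0, 1, 1, 1, 2, 2, 2, 2, 2],
    [0, 0, 0, 1, 1, 1, 2, 2, 2],
    [0, 0, 0, 0, 0, 1, 1, 1, 1, 1, 2, 2, 2, 2, 2],
    [0, 0, 0, 2, 2, 2, 2, 2],
    [0, 0, 0, 0, 2, 2, 2, 2],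
    [1, 2, 2, 2, 2, 2],
    [0, 0, 0, 1, 1, 1, 1, 1, 2, 2, 2, 2],
    [0, 0, 0, 0, 0, 2, 2],
    [0, 0, 2, 2, 2],
    [0, 0, 1, 1, 2, 2, 2],
    [0, 0, 0, 0, 0, 0, 1, 1, 1],
    [0, 0, 2, 2, 2, 2, 2, 2],
    [0, 0, 0, 0, 1, 2, 2, 2],
    [0, 0, 0, 0, 0, 1, 1, 2, 2, 2, 2, 2, 2],
    [0, 0, 0, 0, 0, 1, 1, 1, 1, 1, 1, 2],
    [0, 0, 1, 2],
    [0, 1, 1, 2, 2, 2, 2],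
    [0, 0, 0, 1, 1, 1, 1, 1],
    [0, 0, 0, 0, 0, 1, 1, 1, 1, 1, 1],
    [0, 1, 1, 1, 2, 2, 2, 2, 2],
    [0, 0, 0, 0, 1, 1, 2, 2],
    [0, 0, 1, 1, 2, 2, 2, 2, 2],
    [0, 0, 0, 0, 0, 0, 1, 1, 1, 1, 1],
    [0, 0, 0, 0, 0, 0, 1, 1, 1, 2, 2, 2, 2, 2],
    [0, 0, 1, 1, 1, 1, 1, 2],
    [0, 0, 1, 1, 1, 2, 2],
    [0, 0, 0, 0, 0, 1, 1, 1, 1],
    [0, 0, 0, 0, 1, 1, 1, 1],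
    [0, 0, 0, 0, 0, 0, 1, 1, 2, 2, 2, 2],
    [1, 1, 1, 1, 2],
    [0, 0, 0, 0, 0, 0, 1, 1, 1, 1, 1, 2, 2, 2, 2],
    [0, 0, 0, 1, 1],
    [0, 0, 0, 0, 1, 1],
    [0, 0, 0, 1, 1, 1, 1, 1, 2, 2, 2],
    [0, 0, 0, 0, 1, 1, 1, 2, 2, 2, 2, 2, 2],
    [0, 0, 0, 0, 1, 1, 1, 1, 1, 1, 2, 2],
    [0, 0, 0, 0, 0],
    [0, 0, 0, 0, 0, 0, 1, 1, 1, 1, 1, 1, 2, 2],
    [1, 1, 1, 2, 2, 2, 2, 2],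
    [0, 1, 1, 1, 1, 2, 2, 2, 2, 2, 2],
    [0, 2, 2, 2, 2, 2],
    [0, 0, 0, 0, 0, 1, 2],
    [0, 0, 0, 0, 0, 1, 1, 1, 1, 1, 2, 2, 2, 2],
    [0, 0, 0, 0, 1, 1, 1, 1, 1, 2, 2],
    [1, 1, 1, 1, 1, 2, 2, 2, 2],
    [0, 0, 0, 0, 0, 0, 1, 2, 2, 2, 2, 2, 2],
    [1, 1, 1, 1, 1, 2, 2, 2],
    [0, 0, 0, 0, 1, 1, 1, 1, 1, 1, 2, 2, 2, 2],
    [0, 0, 0, 0, 0, 0, 1, 1, 1, 1, 1, 1, 2],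
    [0, 0, 0, 0, 0, 0, 1, 1, 1, 1],
    [0, 0, 0, 0, 0, 0, 2, 2, 2, 2],
    [0, 0, 0, 0, 0, 0, 1, 1, 1, 2, 2, 2],
    [0, 0, 0, 0, 0, 0, 1, 1, 1, 1, 1, 2, 2, 2, 2, 2],
    [0, 0, 0, 0, 0, 0, 1, 2, 2, 2],
    [1, 1, 1, 1, 1, 1, 2],
    [0, 0, 0, 0, 0, 0, 1, 1, 1, 1, 1, 1, 2, 2, 2, 2, 2],
    [0, 0, 0, 0, 0, 1, 1, 1, 1, 1, 1, 2, 2],
    [1, 1, 1, 1, 1, 1, 2, 2, 2, 2, 2, 2],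
    [0, 0, 0, 0, 0, 0, 1, 1, 1, 1, 1, 1, 2, 2, 2],
    [0, 2, 2, 2, 2, 2, 2],
    [1, 2],
    [0, 0, 0, 1, 1, 1, 1, 1, 1, 2],
    [0, 0, 0, 1, 1, 1, 1],
    [0, 0, 0, 0, 0, 1, 1, 1, 2, 2, 2, 2, 2, 2]]

/-- Presentation of the Sylow 7-subgroup. -/
def pc7 : PC where
  p := 7
  n := 3
  rhs := [[],
    [0, 1, 2],
    [],
    [0, 2],
    [1, 2],
    []]
  defs := [(2, 1, 0)]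

/-- Conjugation data. -/
def conj7 : List Conj :=
   [(0, [1], [1, 1, 1, 2, 2, 2, 2]),
    (0, [0], [0, 0, 0, 0, 1, 2, 2, 2]),
    (0, [2, 2, 2, 2], [2, 2, 2, 2, 2, 2]),
    (0, [0, 0, 1, 1, 1, 1, 1, 2], [0, 1, 1, 1]),
    (1, [1, 1, 1, 1, 1, 1, 2, 2, 2, 2, 2, 2], [0, 0, 0, 0, 2, 2, 2, 2, 2]),
    (1, [1, 2, 2, 2], [0, 0, 0])]

/-- Equations between tails. -/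
def cert7 : Cert where
  eqns := [.cons [1, 1, 1, 1, 1, 1, 1, 0] 0 6,
    .fus [0] [0, 0, 0, 0, 0, 0, 0] [],
    .fus [1] [0, 0, 0, 0, 0, 0, 0] [],
    .fus [2, 3] [0, 1] [1, 0],
    .fus [4, 5] [0, 1] [1, 0]]
  free := 6
  combo := [[0, 0, 1, 1, 1, 1, 1, 1, 2, 2],
    [],
    [0, 0, 1, 1, 1],
    [3, 3, 3, 3, 3, 4, 4],
    [3, 3, 3, 3, 3, 3, 4, 4, 4, 4, 4],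
    [0, 0, 0, 0, 0, 0]]

/-- The certificate. -/
def tab7 : TableCert where
  P := pc7
  ews := [[3, 6, 3, 2, 3, 5, 2, 3, 1, 2, 3, 2, 0, 5, 1, 2, 3, 6, 2, 3, 5, 1, 2, 3, 2, 1, 3, 0, 0, 2, 4, 3, 0],
    [5, 3, 6, 3, 4, 1, 2, 3, 2, 3, 0, 1, 2, 3, 6, 2, 3, 1, 2, 3, 6, 3, 5, 3, 4, 1],
    [5, 2, 3, 6, 4, 1, 2, 3, 1, 2, 3, 2, 1, 4, 2, 3, 2, 3, 1, 2, 3, 6, 3, 2, 3, 1, 2, 6, 4, 6, 5, 4, 6]]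
  gws := [[4, 3, 6, 1, 2, 3, 2, 3, 5, 2, 1, 3, 2, 3, 4, 2, 3, 6, 2, 3, 1, 2, 3, 4],
    [2, 3, 6, 2, 3, 4, 2, 3, 1, 2, 3, 2, 1, 6, 2, 3, 2, 3, 6, 3, 2, 3, 0, 1, 2, 3]]
  C := conj7
  K := cert7
  els := els7

theorem tab7_rel : tab7.chkRel actA [0, 1, 2, 3, 5, 8, 1435] = true := by decide +kernel

theorem tab7_card : tab7.chkCard actA [0, 1, 2, 3, 5, 8, 1435] = true := by decide +kernel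

theorem tab7_tails : tab7.K.check tab7.P tab7.C = true := by decide +kernel

theorem sylow7 : Nonempty (SylowCert Spor.He 7) :=
  have := finite
  TableCert.sylowCert homA (by decide +kernel) det card_eq rfl (by decide) tab7_rel tab7_card tab7_tails
    (le_of_eq rfl) (by decide +kernel)

end Cfsg.Agent.Spor.Cos.He.Mult
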