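import Cfsg.Agent.Lib.Spor.Cos.He.TopData

/-! A checked coset enumeration. -/

set_option autoImplicit false
set_option maxRecDepth 100000
set_option maxHeartbeats 4000000

namespace Cfsg.Agent.Spor.Cos.He

theorem top_def40 : allBlock top.chkDef 49979 512 40 = true := by decide +kernel

theorem top_def41 : allBlock top.chkDef 49979 512 41 = true := by decide +kernel

theorem top_def42 : allBlock top.chkDef 49979 512 42 = true := by decide +kernel

theorem top_def43 : allBlock top.chkDef 49979 512 43 = true := by decide +kernel

theorem top_def44 : allBlock top.chkDef 49979 512 44 = true := by decide +kernel

theorem top_def45 : allBlock top.chkDef 49979 512 45 = true := by decide +kernel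

theorem top_def46 : allBlock top.chkDef 49979 512 46 = true := by decide +kernel

theorem top_def47 : allBlock top.chkDef 49979 512 47 = true := by decide +kernel

theorem top_def48 : allBlock top.chkDef 49979 512 48 = true := by decide +kernel

theorem top_def49 : allBlock top.chkDef 49979 512 49 = true := by decide +kernel

theorem top_def50 : allBlock top.chkDef 49979 512 50 = true := by decide +kernel

theorem top_def51 : allBlock top.chkDef 49979 512 51 = true := by decide +kernel

theorem top_def52 : allBlock top.chkDef 49979 512 52 = true := by decide +kernel

theorem top_def53 : allBlock top.chkDef 49979 512 53 = true := by decide +kernel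

theorem top_def54 : allBlock top.chkDef 49979 512 54 = true := by decide +kernel

theorem top_def55 : allBlock top.chkDef 49979 512 55 = true := by decide +kernel

theorem top_def56 : allBlock top.chkDef 49979 512 56 = true := by decide +kernel

theorem top_def57 : allBlock top.chkDef 49979 512 57 = true := by decide +kernel

theorem top_def58 : allBlock top.chkDef 49979 512 58 = true := by decide +kernel

theorem top_def59 : allBlock top.chkDef 49979 512 59 = true := by decide +kernel

theorem top_def60 : allBlock top.chkDef 49979 512 60 = true := by decide +kernel

theorem top_def61 : allBlock top.chkDef 49979 512 61 = true := by decide +kernel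

theorem top_def62 : allBlock top.chkDef 49979 512 62 = true := by decide +kernel

theorem top_def63 : allBlock top.chkDef 49979 512 63 = true := by decide +kernel

theorem top_def64 : allBlock top.chkDef 49979 512 64 = true := by decide +kernel

theorem top_def65 : allBlock top.chkDef 49979 512 65 = true := by decide +kernel

theorem top_def66 : allBlock top.chkDef 49979 512 66 = true := by decide +kernel

theorem top_def67 : allBlock top.chkDef 49979 512 67 = true := by decide +kernel

theorem top_def68 : allBlock top.chkDef 49979 512 68 = true := by decide +kernel

theorem top_def69 : allBlock top.chkDef 49979 512 69 = true := by decide +kernel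

theorem top_def70 : allBlock top.chkDef 49979 512 70 = true := by decide +kernel

theorem top_def71 : allBlock top.chkDef 49979 512 71 = true := by decide +kernel

theorem top_def72 : allBlock top.chkDef 49979 512 72 = true := by decide +kernel

theorem top_def73 : allBlock top.chkDef 49979 512 73 = true := by decide +kernel

theorem top_def74 : allBlock top.chkDef 49979 512 74 = true := by decide +kernel

theorem top_def75 : allBlock top.chkDef 49979 512 75 = true := by decide +kernel

theorem top_def76 : allBlock top.chkDef 49979 512 76 = true := by decide +kernel

theorem top_def77 : allBlock top.chkDef 49979 512 77 = true := by decide +kernel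

theorem top_def78 : allBlock top.chkDef 49979 512 78 = true := by decide +kernel

theorem top_def79 : allBlock top.chkDef 49979 512 79 = true := by decide +kernel

end Cfsg.Agent.Spor.Cos.He
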