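import Cfsg.Agent.Lib.Spor.Cos.He.TopData

/-! A checked coset enumeration. -/

set_option autoImplicit false
set_option maxRecDepth 100000
set_option maxHeartbeats 4000000

namespace Cfsg.Agent.Spor.Cos.He

theorem top_final622 : allBlock top.chkFinal 349860 512 622 = true := by decide +kernel

theorem top_final623 : allBlock top.chkFinal 349860 512 623 = true := by decide +kernel

theorem top_final624 : allBlock top.chkFinal 349860 512 624 = true := by decide +kernel

theorem top_final625 : allBlock top.chkFinal 349860 512 625 = true := by decide +kernel

theorem top_final626 : allBlock top.chkFinal 349860 512 626 = true := by decide +kernel

theorem top_final627 : allBlock top.chkFinal 349860 512 627 = true := by decide +kernel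

theorem top_final628 : allBlock top.chkFinal 349860 512 628 = true := by decide +kernel

theorem top_final629 : allBlock top.chkFinal 349860 512 629 = true := by decide +kernel

theorem top_final630 : allBlock top.chkFinal 349860 512 630 = true := by decide +kernel

theorem top_final631 : allBlock top.chkFinal 349860 512 631 = true := by decide +kernel

theorem top_final632 : allBlock top.chkFinal 349860 512 632 = true := by decide +kernel

theorem top_final633 : allBlock top.chkFinal 349860 512 633 = true := by decide +kernel

theorem top_final634 : allBlock top.chkFinal 349860 512 634 = true := by decide +kernel

theorem top_final635 : allBlock top.chkFinal 349860 512 635 = true := by decide +kernel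

theorem top_final636 : allBlock top.chkFinal 349860 512 636 = true := by decide +kernel

theorem top_final637 : allBlock top.chkFinal 349860 512 637 = true := by decide +kernel

theorem top_final638 : allBlock top.chkFinal 349860 512 638 = true := by decide +kernel

theorem top_final639 : allBlock top.chkFinal 349860 512 639 = true := by decide +kernel

theorem top_final640 : allBlock top.chkFinal 349860 512 640 = true := by decide +kernel

theorem top_final641 : allBlock top.chkFinal 349860 512 641 = true := by decide +kernel

theorem top_final642 : allBlock top.chkFinal 349860 512 642 = true := by decide +kernel

theorem top_final643 : allBlock top.chkFinal 349860 512 643 = true := by decide +kernel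

theorem top_final644 : allBlock top.chkFinal 349860 512 644 = true := by decide +kernel

theorem top_final645 : allBlock top.chkFinal 349860 512 645 = true := by decide +kernel

theorem top_final646 : allBlock top.chkFinal 349860 512 646 = true := by decide +kernel

theorem top_final647 : allBlock top.chkFinal 349860 512 647 = true := by decide +kernel

theorem top_final648 : allBlock top.chkFinal 349860 512 648 = true := by decide +kernel

theorem top_final649 : allBlock top.chkFinal 349860 512 649 = true := by decide +kernel

theorem top_final650 : allBlock top.chkFinal 349860 512 650 = true := by decide +kernel

theorem top_final651 : allBlock top.chkFinal 349860 512 651 = true := by decide +kernel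

theorem top_final652 : allBlock top.chkFinal 349860 512 652 = true := by decide +kernel

theorem top_final653 : allBlock top.chkFinal 349860 512 653 = true := by decide +kernel

theorem top_final654 : allBlock top.chkFinal 349860 512 654 = true := by decide +kernel

theorem top_final655 : allBlock top.chkFinal 349860 512 655 = true := by decide +kernel

theorem top_final656 : allBlock top.chkFinal 349860 512 656 = true := by decide +kernel

theorem top_final657 : allBlock top.chkFinal 349860 512 657 = true := by decide +kernel

theorem top_final658 : allBlock top.chkFinal 349860 512 658 = true := by decide +kernel

theorem top_final659 : allBlock top.chkFinal 349860 512 659 = true := by decide +kernel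

theorem top_final660 : allBlock top.chkFinal 349860 512 660 = true := by decide +kernel

theorem top_final661 : allBlock top.chkFinal 349860 512 661 = true := by decide +kernel

end Cfsg.Agent.Spor.Cos.He
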